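import Cfsg.Agent.InvFour5.Pair
import Cfsg.Agent.S0949
import Cfsg.Agent.S0076
import Cfsg.Agent.S0215

/-!
The case of a normal invariant four-group centralised by the fixed element of order 4.
-/

set_option autoImplicit false

namespace Cfsg.Agent.InvFour5

open Subgroup
open scoped commutatorElement

/-- A 2-group with an involutory automorphism fixing just `⟨c⟩` (order 4), and a normal invariant
four-group `{1, c², v, c² v}` centralised by `c`. -/
structure Data (S : Type*) [Group S] where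
  φ : S ≃* S
  hφ : ∀ s, φ (φ s) = s
  c : S
  hφc : φ c = c
  hc4 : (c * c) * (c * c) = 1
  hc2 : c * c ≠ 1
  hfix : ∀ s, φ s = s → s = 1 ∨ s = c * c ∨ s = c ∨ s = c * (c * c)
  v : S
  hv2 : v * v = 1
  hv1 : v ≠ 1
  hvu : v ≠ c * c
  hφv : φ v = c * c * v
  hu : ∀ s, s * (c * c) = c * c * s
  hconj : ∀ s, s * v * s⁻¹ = v ∨ s * v * s⁻¹ = c * c * v
  hcv : c * v = v * c

namespace Data

variable {S : Type*} [Group S] (D : Data S)

/-- The central involution. -/
def u : S := D.c * D.c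

theorem u2 : D.u * D.u = 1 := D.hc4
theorem u1 : D.u ≠ 1 := D.hc2
theorem uv2 : (D.u * D.v) * (D.u * D.v) = 1 := by
  calc (D.u * D.v) * (D.u * D.v) = D.u * (D.v * D.u) * D.v := by group
    _ = (D.u * D.u) * (D.v * D.v) := by rw [show D.v * D.u = D.u * D.v from D.hu D.v]; group
    _ = 1 := by rw [D.u2, D.hv2, one_mul]
theorem uv1 : D.u * D.v ≠ 1 := fun h => D.hvu (by
  rw [mul_eq_one_iff_inv_eq, inv_eq_of_mul_eq_one_right D.u2] at h; exact h.symm)
theorem uvu : D.u * D.v ≠ D.u := fun h => D.hv1 (mul_eq_left.1 h)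
theorem uvv : D.u * D.v ≠ D.v := fun h => D.u1 (mul_eq_right.1 h)
theorem φu : D.φ D.u = D.u := by rw [u, map_mul, D.hφc]

/-- The same data with `v` replaced by `u v`. -/
def swap : Data S where
  φ := D.φ
  hφ := D.hφ
  c := D.c
  hφc := D.hφc
  hc4 := D.hc4
  hc2 := D.hc2
  hfix := D.hfix
  v := D.u * D.v
  hv2 := D.uv2
  hv1 := D.uv1
  hvu := D.uvu
  hφv := by rw [map_mul, D.φu, D.hφv]; rfl
  hu := D.hu
  hconj := fun s => by
    have e : s * (D.u * D.v) * s⁻¹ = D.u * (s * D.v * s⁻¹) := by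
      rw [← mul_assoc, show s * D.u = D.u * s from D.hu s]; group
    rcases D.hconj s with h | h <;> rw [e, h]
    · exact Or.inl rfl
    · exact Or.inr rfl
  hcv := by
    rw [← mul_assoc, show D.c * D.u = D.u * D.c from D.hu D.c, mul_assoc, D.hcv, mul_assoc]

/-- The four-group. -/
def E : Subgroup S :=
  Perm.FourAct.pairGroup D.u D.v D.u2 D.hv2 (show D.u * D.v = D.v * D.u from (D.hu D.v).symm)

theorem mem_E {a : S} : a ∈ D.E ↔ a = 1 ∨ a = D.u ∨ a = D.v ∨ a = D.u * D.v := Iff.rfl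

instance : D.E.Normal := ⟨fun a ha s => by
  have hsu : s * D.u * s⁻¹ = D.u := by
    rw [show s * D.u = D.u * s from D.hu s, mul_inv_cancel_right]
  have key : s * D.v * s⁻¹ ∈ D.E := by
    rcases D.hconj s with h | h <;> rw [h]
    exacts [D.mem_E.2 (Or.inr (Or.inr (Or.inl rfl))), D.mem_E.2 (Or.inr (Or.inr (Or.inr rfl)))]
  have hu' : D.u ∈ D.E := D.mem_E.2 (Or.inr (Or.inl rfl))
  rcases D.mem_E.1 ha with rfl | rfl | rfl | rfl
  · simp
  · rwa [hsu]
  · exact key
  · rw [show s * (D.u * D.v) * s⁻¹ = (s * D.u * s⁻¹) * (s * D.v * s⁻¹) by group, hsu]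
    exact mul_mem hu' key⟩

theorem φ_mem {a : S} (ha : a ∈ D.E) : D.φ a ∈ D.E := by
  rcases D.mem_E.1 ha with rfl | rfl | rfl | rfl
  · simp [D.mem_E]
  · exact D.mem_E.2 (Or.inr (Or.inl D.φu))
  · exact D.mem_E.2 (Or.inr (Or.inr (Or.inr D.hφv)))
  · refine D.mem_E.2 (Or.inr (Or.inr (Or.inl ?_)))
    rw [map_mul, D.φu, D.hφv]
    show D.u * (D.u * D.v) = D.v
    rw [← mul_assoc, D.u2, one_mul]

theorem map_E : D.E.map D.φ.toMonoidHom = D.E := le_antisymm
  (by rintro _ ⟨a, ha, rfl⟩; exact D.φ_mem ha) fun a ha => ⟨D.φ a, D.φ_mem ha, D.hφ a⟩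

/-- The induced automorphism of the quotient. -/
def φq : S ⧸ D.E ≃* S ⧸ D.E := QuotientGroup.congr D.E D.E D.φ D.map_E

theorem φq_mk (s : S) : D.φq (QuotientGroup.mk' D.E s) = QuotientGroup.mk' D.E (D.φ s) := rfl

theorem φq_invol (b : S ⧸ D.E) : D.φq (D.φq b) = b := by
  obtain ⟨s, rfl⟩ := QuotientGroup.mk'_surjective _ b
  rw [φq_mk, φq_mk, D.hφ]

theorem fix_q (b : S ⧸ D.E) (hb : D.φq b = b) :
    b = 1 ∨ b = QuotientGroup.mk' D.E D.c := by
  obtain ⟨s, rfl⟩ := QuotientGroup.mk'_surjective _ b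
  rw [φq_mk] at hb
  have he : s⁻¹ * D.φ s ∈ D.E := QuotientGroup.eq.1 hb.symm
  have hc : ∀ a, D.φ a = a →
      QuotientGroup.mk' D.E a = 1 ∨ QuotientGroup.mk' D.E a = QuotientGroup.mk' D.E D.c := by
    intro a ha
    rcases D.hfix a ha with rfl | rfl | rfl | rfl
    · exact Or.inl (map_one _)
    · exact Or.inl ((QuotientGroup.eq_one_iff _).2 (D.mem_E.2 (Or.inr (Or.inl rfl))))
    · exact Or.inr rfl
    · right
      rw [map_mul, show QuotientGroup.mk' D.E (D.c * D.c) = 1 from
        (QuotientGroup.eq_one_iff _).2 (D.mem_E.2 (Or.inr (Or.inl rfl))), mul_one]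
  set e := s⁻¹ * D.φ s with he'
  have hee : e * D.φ e = 1 := by rw [he', map_mul, map_inv, D.hφ]; group
  have hse : D.φ s = s * e := by rw [he']; group
  rcases D.mem_E.1 he with h | h | h | h <;> rw [h] at hee hse
  · exact hc s (by rw [hse, mul_one])
  · have hf : D.φ (s * D.v) = s * D.v := by
      rw [map_mul, hse, D.hφv]
      show s * D.u * (D.u * D.v) = s * D.v
      rw [mul_assoc, ← mul_assoc D.u, D.u2, one_mul]
    have hv : QuotientGroup.mk' D.E D.v = 1 :=
      (QuotientGroup.eq_one_iff _).2 (D.mem_E.2 (Or.inr (Or.inr (Or.inl rfl))))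
    have := hc _ hf
    rwa [map_mul, hv, mul_one] at this
  · exfalso
    rw [D.hφv, ← mul_assoc, show D.v * (D.c * D.c) = D.c * D.c * D.v from D.hu D.v, mul_assoc,
      D.hv2, mul_one] at hee
    exact D.hc2 hee
  · exfalso
    rw [map_mul, D.φu, D.hφv] at hee
    have : D.u * D.v * (D.u * (D.u * D.v)) = D.u := by
      rw [← mul_assoc D.u D.u, D.u2, one_mul, mul_assoc, D.hv2, mul_one]
    exact D.u1 (this.symm.trans hee)

theorem sq_of_mem {a : S} (ha : a ∈ D.E) : a * a = 1 := Perm.FourAct.pairGroup_sq ha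

/-- Elements congruent to `c` modulo the four-group square to `u`. -/
theorem sq_coset {a : S} (h : QuotientGroup.mk' D.E a = QuotientGroup.mk' D.E D.c) :
    a * a = D.u := by
  have h0 : D.c⁻¹ * a ∈ D.E := QuotientGroup.eq.1 h.symm
  obtain ⟨e, he, rfl⟩ : ∃ e ∈ D.E, a = D.c * e := ⟨_, h0, by group⟩
  clear h h0
  have hce : e * D.c = D.c * e := by
    have hcu : D.u * D.c = D.c * D.u := (D.hu D.c).symm
    rcases D.mem_E.1 he with rfl | rfl | rfl | rfl
    · simp
    · exact hcu
    · exact D.hcv.symm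
    · rw [mul_assoc, ← D.hcv, ← mul_assoc, hcu, mul_assoc]
  calc D.c * e * (D.c * e) = D.c * (e * D.c) * e := by group
    _ = (D.c * D.c) * (e * e) := by rw [hce]; group
    _ = D.u := by rw [D.sq_of_mem he, mul_one]; rfl

theorem not_fixed {x : S} (hx : x * x ≠ D.u) (hxE : x ∉ D.E) :
    D.φq (QuotientGroup.mk' D.E x) ≠ QuotientGroup.mk' D.E x := fun h => by
  rcases D.fix_q _ h with h1 | h1
  · exact hxE ((QuotientGroup.eq_one_iff x).1 h1)
  · exact hx (D.sq_coset h1)

theorem gen [Finite S] (hS : IsPGroup 2 S) {x : S} (hxx : x * x ∈ D.E) (hxE : x ∉ D.E)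
    (hxu : x * x ≠ D.u) (s : S) :
    ∃ i : ℤ, ∃ e ∈ D.E, s = (x * D.φ x) ^ i * e ∨ s = (x * D.φ x) ^ i * x * e := by
  obtain ⟨i, h | h⟩ := gen_pair (hS.to_quotient D.E) D.φq D.φq_invol _ D.fix_q
    (QuotientGroup.mk' D.E x) (by rw [← map_mul]; exact (QuotientGroup.eq_one_iff _).2 hxx)
    (D.not_fixed hxu hxE) (QuotientGroup.mk' D.E s)
  · rw [φq_mk, ← map_mul, ← map_zpow] at h
    exact ⟨i, _, QuotientGroup.eq.1 h.symm, Or.inl (by group)⟩
  · rw [φq_mk, ← map_mul, ← map_zpow, ← map_mul] at h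
    exact ⟨i, _, QuotientGroup.eq.1 h.symm, Or.inr (by group)⟩

/-- An involution outside the four-group is no square. -/
theorem not_sq [Finite S] (hS : IsPGroup 2 S) {x d : S} (hx : x * x = 1) (hxE : x ∉ D.E)
    (hd : d * d = x) : False := by
  have hxu : x * x ≠ D.u := by rw [hx]; exact D.u1.symm
  obtain ⟨i, e, he, h⟩ := D.gen hS (hx ▸ one_mem _) hxE hxu d
  set q := QuotientGroup.mk' D.E with hq
  have hqe : q e = 1 := (QuotientGroup.eq_one_iff e).2 he
  have hX2 : q x * q x = 1 := by rw [← map_mul, hx, map_one]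
  have hY2 : D.φq (q x) * D.φq (q x) = 1 := by rw [← map_mul, hX2, map_one]
  have hxr : q x * q (x * D.φ x) * (q x)⁻¹ = (q (x * D.φ x))⁻¹ := by
    rw [map_mul q x, ← φq_mk]; exact mul_inverts hX2 hY2
  rcases h with h | h
  · refine D.not_fixed hxu hxE ?_
    have hφR : D.φq (q (x * D.φ x)) = (q (x * D.φ x))⁻¹ := by
      rw [map_mul q, map_mul D.φq, ← φq_mk, φq_invol, mul_inv_rev,
        inv_eq_of_mul_eq_one_right hX2, inv_eq_of_mul_eq_one_right hY2]
    have hXr : q x = q (x * D.φ x) ^ (i + i) := by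
      nth_rewrite 1 [← hd]
      rw [map_mul q d d, h, map_mul, map_zpow, hqe, mul_one, zpow_add]
    show D.φq (q x) = q x
    calc D.φq (q x) = D.φq (q (x * D.φ x) ^ (i + i)) := congrArg _ hXr
      _ = (q (x * D.φ x) ^ (i + i))⁻¹ := by rw [map_zpow, hφR, inv_zpow]
      _ = (q x)⁻¹ := by rw [← hXr]
      _ = q x := inv_eq_of_mul_eq_one_right hX2
  · apply hxE
    rw [← QuotientGroup.eq_one_iff]
    show q x = 1
    rw [← hd, map_mul, h, map_mul, map_mul, map_zpow, hqe, mul_one]
    calc q (x * D.φ x) ^ i * q x * (q (x * D.φ x) ^ i * q x)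
        = q (x * D.φ x) ^ i * (q x * q (x * D.φ x) ^ i) * q x := by group
      _ = q x * q x := by rw [swap_zpow hxr]; group
      _ = 1 := hX2

end Data

section Perfect

variable {A : Type*} [Group A] [Finite A]

theorem sylow_card_max (P : Sylow 2 A) (R : Subgroup A) (hR : IsPGroup 2 R) :
    Nat.card R ≤ Nat.card (P : Subgroup A) := by
  obtain ⟨Q, hQ⟩ := hR.exists_le_sylow
  rw [P.card_eq_multiplicity, ← Q.card_eq_multiplicity]
  exact Subgroup.card_le_of_le hQ

/-- Two central elements of a Sylow subgroup conjugate in the group are conjugate in its normaliser. -/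
theorem burnside_pair (P : Sylow 2 A) (a b : ↥(P : Subgroup A)) (ha : ∀ s, s * a = a * s)
    (hb : ∀ s, s * b = b * s) {g : A} (hg : g * (a : A) * g⁻¹ = (b : A)) :
    ∃ n ∈ normalizer ((P : Subgroup A) : Set A), n * (a : A) * n⁻¹ = (b : A) := by
  haveI : Fact (Nat.Prime 2) := ⟨Nat.prime_two⟩
  have hinv : ∀ a : ↥(P : Subgroup A), (∀ s, s * a = a * s) → ∀ x ∈ P,
      (fun y => x * y * x⁻¹) '' {(a : A)} = {(a : A)} := by
    intro a ha x hx
    rw [Set.image_singleton, Set.singleton_eq_singleton_iff, mul_inv_eq_iff_eq_mul]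
    exact congrArg Subtype.val (ha ⟨x, hx⟩)
  obtain ⟨n, hn, hne⟩ := S0076.result P {(a : A)} {(b : A)} (by simp) (by simp) (hinv a ha)
    (hinv b hb) g (by rw [Set.image_singleton, hg])
  rw [Set.image_singleton, Set.singleton_eq_singleton_iff] at hne
  exact ⟨n, hn, hne⟩

/-- A `v` whose square root `d` exists is not fused to `u`. -/
theorem not_square (hperf : Group.IsPerfect A)
    (hO : ∀ N : Subgroup A, N.Normal → Odd (Nat.card N) → N = ⊥) (P : Sylow 2 A)
    (D : Data ↥(P : Subgroup A)) (d : ↥(P : Subgroup A)) (hd : d * d = D.v) (g : A)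
    (hg : g * (D.v : A) * g⁻¹ = (D.u : A)) : False := by
  haveI : Fact (Nat.Prime 2) := ⟨Nat.prime_two⟩
  have hS : IsPGroup 2 ↥(P : Subgroup A) := P.isPGroup'
  set y := D.φ d with hy
  set r := d * y with hr
  have hyy : y * y = D.u * D.v := by rw [hy, ← map_mul, hd, D.hφv]; rfl
  have hvE : D.v ∈ D.E := D.mem_E.2 (Or.inr (Or.inr (Or.inl rfl)))
  have hdE : d ∉ D.E := fun h => D.hv1 (hd.symm.trans (D.sq_of_mem h))
  have hdu : d * d ≠ D.u := fun h => D.hvu (hd.symm.trans h)
  have hgen : ∀ s, ∃ i : ℤ, ∃ e ∈ D.E, s = r ^ i * e ∨ s = r ^ i * d * e :=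
    D.gen hS (hd.symm ▸ hvE) hdE hdu
  clear_value r
  have hdv : Commute d D.v := by rw [← hd]; exact (Commute.refl d).mul_right (Commute.refl d)
  have hU : ∀ s, Commute s D.u := D.hu
  have hyv : Commute y D.v := by
    have h1 : Commute y (D.u * D.v) := by
      rw [← hyy]; exact (Commute.refl y).mul_right (Commute.refl y)
    have h2 := (hU y).mul_right h1
    rwa [← mul_assoc, D.u2, one_mul] at h2
  have hEc : ∀ e ∈ D.E, Commute d e ∧ Commute y e := by
    intro e he
    rcases D.mem_E.1 he with rfl | rfl | rfl | rfl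
    exacts [⟨Commute.one_right _, Commute.one_right _⟩, ⟨hU d, hU y⟩, ⟨hdv, hyv⟩,
      ⟨(hU d).mul_right hdv, (hU y).mul_right hyv⟩]
  have hvc : ∀ s, Commute s D.v := by
    intro s
    obtain ⟨i, e, he, h⟩ := hgen s
    have hev : Commute e D.v := by
      rcases D.mem_E.1 he with rfl | rfl | rfl | rfl
      exacts [Commute.one_left _, (hU D.v).symm, Commute.refl _, (hU D.v).symm.mul_left (Commute.refl _)]
    have hrv : Commute r D.v := hr ▸ hdv.mul_left hyv
    rcases h with rfl | rfl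
    · exact (hrv.zpow_left i).mul_left hev
    · exact ((hrv.zpow_left i).mul_left hdv).mul_left hev
  have hφr : D.φ r = y * d := by rw [hr, map_mul, hy, D.hφ]
  have hri : D.u * r⁻¹ = y * d := by
    rw [mul_inv_eq_iff_eq_mul]
    calc D.u = (D.u * D.v) * D.v := by rw [mul_assoc, D.hv2, mul_one]
      _ = y * y * D.v := by rw [hyy]
      _ = y * (y * D.v) := by group
      _ = y * (D.v * y) := by rw [hyv.eq]
      _ = y * d * r := by rw [← hd, hr]; group
  have hdr : d * r * d⁻¹ = D.u * r⁻¹ := by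
    rw [hri, mul_inv_eq_iff_eq_mul, hr, ← mul_assoc, hd, mul_assoc y, hd, hyv.eq]
  set q := QuotientGroup.mk' D.E with hq
  have hne : q d ≠ q y := fun h => D.not_fixed hdu hdE (by rw [D.φq_mk]; exact h.symm)
  have hd2 : q d * q d = 1 := by rw [← map_mul, hd]; exact (QuotientGroup.eq_one_iff _).2 hvE
  by_cases hrr : r * r ∈ D.E
  · -- homocyclic case
    have hru : r * r = D.u := by
      rcases D.fix_q (q r) (by
        rw [D.φq_mk, hφr, ← hri, map_mul,
          show QuotientGroup.mk' D.E D.u = 1 from (QuotientGroup.eq_one_iff _).2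
            (D.mem_E.2 (Or.inr (Or.inl rfl))), one_mul, map_inv]
        refine inv_eq_of_mul_eq_one_right ?_
        rw [← map_mul]
        exact (QuotientGroup.eq_one_iff _).2 hrr) with h | h
      · exfalso
        rw [hr, map_mul] at h
        exact hne ((mul_eq_one_iff_eq_inv.1 h).trans (inv_eq_of_mul_eq_one_right (by
          rw [← map_mul]
          exact (QuotientGroup.eq_one_iff _).2 (hyy.symm ▸ D.mem_E.2 (Or.inr (Or.inr (Or.inr rfl)))))))
      · exact D.sq_coset h
    have hdr' : Commute d r := by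
      have : D.u * r⁻¹ = r := by rw [← hru]; group
      rw [this] at hdr
      exact mul_inv_eq_iff_eq_mul.1 hdr
    have hdy : Commute d y := by
      have := hdr'
      rw [hr] at this
      have h2 : d * (d * y) = d * y * d := this
      exact mul_left_cancel (h2.trans (mul_assoc d y d))
    have hd4 : d ^ 4 = 1 := by
      rw [show (4 : ℕ) = 2 + 2 from rfl, pow_add, sq, hd, D.hv2]
    have hy4 : y ^ 4 = 1 := by
      rw [show (4 : ℕ) = 2 + 2 from rfl, pow_add, sq, hyy, D.uv2]
    let f : Multiplicative (ZMod (2 ^ 2) × ZMod (2 ^ 2)) →* ↥(P : Subgroup A) :=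
      MonoidHom.mk' (fun a => d ^ (Multiplicative.toAdd a).1.val * y ^ (Multiplicative.toAdd a).2.val)
        fun a b => by
          simp only [toAdd_mul, Prod.fst_add, Prod.snd_add, ZMod.val_add]
          rw [← pow_eq_pow_mod _ (show d ^ (2 ^ 2) = 1 from hd4),
            ← pow_eq_pow_mod _ (show y ^ (2 ^ 2) = 1 from hy4), pow_add, pow_add]
          exact (Commute.mul_mul_mul_comm ((hdy.symm).pow_pow _ _).symm _ _)
    have hsurj : ∀ s, s ∈ f.range := by
      have hdf : d ∈ f.range := ⟨Multiplicative.ofAdd (1, 0), by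
        show d ^ (1 : ZMod (2 ^ 2)).val * y ^ (0 : ZMod (2 ^ 2)).val = d
        rw [show (1 : ZMod (2 ^ 2)).val = 1 from rfl, show (0 : ZMod (2 ^ 2)).val = 0 from rfl]; simp⟩
      have hyf : y ∈ f.range := ⟨Multiplicative.ofAdd (0, 1), by
        show d ^ (0 : ZMod (2 ^ 2)).val * y ^ (1 : ZMod (2 ^ 2)).val = y
        rw [show (1 : ZMod (2 ^ 2)).val = 1 from rfl, show (0 : ZMod (2 ^ 2)).val = 0 from rfl]; simp⟩
      have hEf : ∀ e ∈ D.E, e ∈ f.range := by
        have hv : D.v ∈ f.range := hd ▸ mul_mem hdf hdf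
        have huv : D.u * D.v ∈ f.range := hyy ▸ mul_mem hyf hyf
        intro e he
        rcases D.mem_E.1 he with rfl | rfl | rfl | rfl
        · exact one_mem _
        · simpa [mul_assoc, D.hv2] using mul_mem huv hv
        · exact hv
        · exact huv
      intro s
      obtain ⟨i, e, he, rfl | rfl⟩ := hgen s
      · exact mul_mem (zpow_mem (hr ▸ mul_mem hdf hyf) i) (hEf e he)
      · exact mul_mem (mul_mem (zpow_mem (hr ▸ mul_mem hdf hyf) i) hdf) (hEf e he)
    have hinj : Function.Injective f := by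
      rw [injective_iff_map_eq_one]
      intro a ha
      obtain ⟨a, rfl⟩ : ∃ b, a = Multiplicative.ofAdd b := ⟨Multiplicative.toAdd a, rfl⟩
      obtain ⟨i, j⟩ := a
      have hi : i.val < 4 := ZMod.val_lt i
      have hj : j.val < 4 := ZMod.val_lt j
      have hval : d ^ i.val * y ^ j.val = 1 := ha
      have hqd : q (d ^ 2) = 1 := by rw [map_pow, sq, hd2]
      have hqy : q (y ^ 2) = 1 := by
        rw [sq, hyy]; exact (QuotientGroup.eq_one_iff _).2 (D.mem_E.2 (Or.inr (Or.inr (Or.inr rfl))))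
      have hqd1 : q d ≠ 1 := fun h => hdE ((QuotientGroup.eq_one_iff d).1 h)
      have hqy1 : q y ≠ 1 := fun h => hqd1 (D.φq.injective (by rw [D.φq_mk, map_one]; exact h))
      have hq' := congrArg q hval
      have e3 : ∀ z : ↥(P : Subgroup A), z ^ 3 = z ^ 2 * z := fun z => pow_succ z 2
      have hqdy : q d * q y ≠ 1 := fun h => hne (by
        have hy1 : q y * q y = 1 := by rw [← map_mul, ← sq]; exact hqy
        exact (mul_eq_one_iff_eq_inv.1 h).trans (inv_eq_of_mul_eq_one_right hy1))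
      have hcases : (i.val = 0 ∨ i.val = 2) ∧ (j.val = 0 ∨ j.val = 2) := by
        by_contra hne'
        interval_cases hi' : i.val <;> interval_cases hj' : j.val <;>
          simp [map_mul, e3, hqd, hqy, hqd1, hqy1, hqdy] at hq' hne'
      have h0 : i.val = 0 ∧ j.val = 0 := by
        have hd2' : d ^ 2 = D.v := (sq d).trans hd
        have hy2' : y ^ 2 = D.u * D.v := (sq y).trans hyy
        rcases hcases with ⟨hi' | hi', hj' | hj'⟩ <;> rw [hi', hj'] at hval
        · exact ⟨hi', hj'⟩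
        · exact absurd (by simpa [hy2'] using hval) D.uv1
        · exact absurd (by simpa [hd2'] using hval) D.hv1
        · rw [hd2', hy2', ← mul_assoc, (hvc D.u).eq.symm, mul_assoc, D.hv2, mul_one] at hval
          exact absurd hval D.u1
      refine congrArg Multiplicative.ofAdd (Prod.ext ?_ ?_)
      exacts [(ZMod.val_eq_zero i).1 h0.1, (ZMod.val_eq_zero j).1 h0.2]
    obtain ⟨hN, -, hidx⟩ := S0949.result P 2 le_rfl
      (MulEquiv.ofBijective f ⟨hinj, fun s => hsurj s⟩).symm hO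
    haveI := hN
    rcases hidx with h1 | h3
    · have htop : (P : Subgroup A) = ⊤ := Subgroup.index_eq_one.1 h1
      have hcomm : _root_.commutator A ≤ ⊥ := by
        rw [_root_.commutator_def, Subgroup.commutator_le]
        intro a _ b _
        rw [Subgroup.mem_bot, commutatorElement_eq_one_iff_mul_comm]
        obtain ⟨a', ha'⟩ := hsurj ⟨a, htop ▸ mem_top a⟩
        obtain ⟨b', hb'⟩ := hsurj ⟨b, htop ▸ mem_top b⟩
        have := congrArg f (mul_comm a' b')
        rw [map_mul, map_mul, ha', hb'] at this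
        exact congrArg Subtype.val this
      rw [hperf.commutator_eq_top, top_le_iff] at hcomm
      exact D.hc2 (Subtype.ext (Subgroup.mem_bot.1 (hcomm ▸ mem_top ((D.c * D.c : ↥(P : Subgroup A)) : A))))
    · haveI : Fact (Nat.Prime 3) := ⟨Nat.prime_three⟩
      haveI : IsCyclic (A ⧸ (P : Subgroup A)) :=
        isCyclic_of_prime_card (p := 3) (by rw [← Subgroup.index_eq_card, h3])
      have hcomm : _root_.commutator A ≤ (P : Subgroup A) := by
        rw [_root_.commutator_def, Subgroup.commutator_le]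
        intro a _ b _
        rw [← QuotientGroup.eq_one_iff, commutatorElement_def]
        show (a : A ⧸ (P : Subgroup A)) * b * (a : A ⧸ (P : Subgroup A))⁻¹ * (b : A ⧸ (P : Subgroup A))⁻¹ = 1
        rw [mul_comm' (a : A ⧸ (P : Subgroup A)) b]
        group
      rw [hperf.commutator_eq_top, top_le_iff] at hcomm
      rw [hcomm, Subgroup.index_top] at h3
      omega
  · -- otherwise the derived group is cyclic
    set W := D.u * (r * r) with hW
    have hWr : Commute W r := (hU r).symm.mul_left ((Commute.refl r).mul_left (Commute.refl r))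
    have hWd : d * W * d⁻¹ = W⁻¹ := by
      calc d * (D.u * (r * r)) * d⁻¹ = (d * D.u * d⁻¹) * ((d * r * d⁻¹) * (d * r * d⁻¹)) := by group
        _ = D.u * ((D.u * r⁻¹) * (D.u * r⁻¹)) := by
          rw [hdr, show d * D.u * d⁻¹ = D.u by rw [(hU d).eq, mul_inv_cancel_right]]
        _ = D.u * (D.u * (r⁻¹ * D.u) * r⁻¹) := by group
        _ = D.u * (r⁻¹ * r⁻¹) := by
          rw [(hU r⁻¹).eq, ← mul_assoc D.u D.u r⁻¹, D.u2, one_mul]
        _ = (r⁻¹ * r⁻¹) * D.u := ((hU _).eq).symm
        _ = (D.u * (r * r))⁻¹ := by rw [mul_inv_rev, mul_inv_rev, inv_eq_of_mul_eq_one_right D.u2]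
    have hEW : ∀ e ∈ D.E, ∀ s, Commute s e := by
      intro e he s
      rcases D.mem_E.1 he with rfl | rfl | rfl | rfl
      exacts [Commute.one_right _, hU s, hvc s, (hU s).mul_right (hvc s)]
    haveI hK : (zpowers W).Normal := by
      refine Subgroup.normalizer_eq_top_iff.1 (eq_top_iff.2 fun s _ => ?_)
      have hcl : ∀ {a : ↥(P : Subgroup A)}, a * W * a⁻¹ ∈ zpowers W → a⁻¹ * W * a ∈ zpowers W →
          a ∈ normalizer (zpowers W : Set ↥(P : Subgroup A)) := by
        intro a h1 h2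
        refine Subgroup.mem_normalizer_iff.2 fun b => ⟨?_, ?_⟩
        · rintro ⟨k, rfl⟩; rw [← conj_zpow]; exact zpow_mem h1 k
        · rintro ⟨k, hk⟩
          have : b = a⁻¹ * W ^ k * a⁻¹⁻¹ := by rw [show W ^ k = a * b * a⁻¹ from hk]; group
          rw [this, ← conj_zpow, inv_inv]; exact zpow_mem h2 k
      have hfix : ∀ {a : ↥(P : Subgroup A)}, Commute a W → a ∈ normalizer (zpowers W : Set ↥(P : Subgroup A)) := fun {a} h =>
        hcl (by rw [h.eq, mul_inv_cancel_right]; exact mem_zpowers W)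
          (by rw [mul_assoc, ← h.eq, inv_mul_cancel_left]; exact mem_zpowers W)
      have hd' : d ∈ normalizer (zpowers W : Set ↥(P : Subgroup A)) := hcl (hWd ▸ inv_mem (mem_zpowers W)) (by
        have : d⁻¹ * W * d = W⁻¹ := by
          calc d⁻¹ * W * d = d⁻¹ * (d * W * d⁻¹)⁻¹ * d := by rw [hWd, inv_inv]
            _ = W⁻¹ := by group
        exact this ▸ inv_mem (mem_zpowers W))
      obtain ⟨i, e, he, rfl | rfl⟩ := hgen s
      · exact mul_mem (zpow_mem (hfix hWr.symm) i) (hfix (hEW e he W).symm)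
      · exact mul_mem (mul_mem (zpow_mem (hfix hWr.symm) i) hd') (hfix (hEW e he W).symm)
    let π := QuotientGroup.mk' (zpowers W)
    have hπ : Commute (π d) (π r) := by
      have hW1 : π (D.u * (r * r)) = 1 := (QuotientGroup.eq_one_iff W).2 (mem_zpowers W)
      rw [map_mul, map_mul] at hW1
      have h2 : π D.u * (π r)⁻¹ = π r := by
        have hu2 : π D.u * π D.u = 1 := by rw [← map_mul, D.u2, map_one]
        calc π D.u * (π r)⁻¹ = π D.u * (π D.u * (π r * π r)) * (π r)⁻¹ := by rw [hW1, mul_one]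
          _ = π r := by rw [← mul_assoc (π D.u), hu2, one_mul, mul_inv_cancel_right]
      have := congrArg π hdr
      rw [map_mul, map_mul, map_mul, map_inv, map_inv, h2] at this
      exact mul_inv_eq_iff_eq_mul.1 this
    have hcomm : _root_.commutator ↥(P : Subgroup A) ≤ zpowers W := by
      rw [_root_.commutator_def, Subgroup.commutator_le]
      intro a _ b _
      refine (QuotientGroup.eq_one_iff (N := zpowers W) _).1 ?_
      show π ⁅a, b⁆ = 1
      rw [map_commutatorElement, commutatorElement_eq_one_iff_mul_comm]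
      have hcd : ∀ s, Commute (π d) (π s) ∧ Commute (π r) (π s) := by
        intro s
        obtain ⟨i, e, he, rfl | rfl⟩ := hgen s <;> simp only [map_mul, map_zpow]
        · exact ⟨(hπ.zpow_right i).mul_right ((hEW e he d).map π),
            ((Commute.refl _).zpow_right i).mul_right ((hEW e he r).map π)⟩
        · exact ⟨((hπ.zpow_right i).mul_right (Commute.refl _)).mul_right ((hEW e he d).map π),
            (((Commute.refl _).zpow_right i).mul_right hπ.symm).mul_right ((hEW e he r).map π)⟩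
      obtain ⟨i, e, he, rfl | rfl⟩ := hgen a <;> simp only [map_mul, map_zpow]
      · exact (((hcd b).2.zpow_left i).mul_left ((hEW e he b).map π).symm).eq
      · exact ((((hcd b).2.zpow_left i).mul_left (hcd b).1).mul_left ((hEW e he b).map π).symm).eq
    have hW1 : W ≠ 1 := fun h => hrr (by
      rw [hW, mul_eq_one_iff_inv_eq, inv_eq_of_mul_eq_one_right D.u2] at h
      exact h ▸ D.mem_E.2 (Or.inr (Or.inl rfl)))
    obtain ⟨m, hm⟩ := IsPGroup.iff_orderOf.1 hS W
    obtain ⟨l, rfl⟩ : ∃ l, m = l + 1 := Nat.exists_eq_add_one.2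
      (Nat.pos_of_ne_zero fun h0 => hW1 (orderOf_eq_one_iff.1 (by simp [hm, h0])))
    have hWu : W ^ 2 ^ l = D.u := by
      have h1 : W ^ 2 ^ l ≠ 1 := pow_ne_one_of_lt_orderOf (pow_ne_zero l two_ne_zero)
        (by rw [hm]; exact Nat.pow_lt_pow_right one_lt_two (Nat.lt_succ_self l))
      have h2 : W ^ 2 ^ l * W ^ 2 ^ l = 1 := by
        rw [← pow_add, ← two_mul, ← pow_succ', ← hm, pow_orderOf_eq_one]
      have hφW : D.φ W = W⁻¹ := by
        rw [← hWd, hW, map_mul, map_mul, D.φu, hφr, ← hri, ← hdr]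
        calc D.u * (d * r * d⁻¹ * (d * r * d⁻¹)) = (d * D.u * d⁻¹) * (d * r * r * d⁻¹) := by
              rw [show d * D.u * d⁻¹ = D.u by rw [(hU d).eq, mul_inv_cancel_right]]; group
          _ = d * (D.u * (r * r)) * d⁻¹ := by group
      have hf : D.φ (W ^ 2 ^ l) = W ^ 2 ^ l := by
        rw [map_pow, hφW, inv_pow]; exact inv_eq_of_mul_eq_one_right h2
      rcases D.hfix _ hf with h | h | h | h
      · exact absurd h h1
      · exact h
      · rw [h] at h2; exact absurd h2 D.hc2
      · rw [h] at h2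
        refine absurd ?_ D.hc2
        calc D.c * D.c = (D.c * D.c) * ((D.c * D.c) * (D.c * D.c)) := by rw [D.hc4, mul_one]
          _ = D.c * (D.c * D.c) * (D.c * (D.c * D.c)) := by group
          _ = 1 := h2
    have hucomm : D.u ∈ _root_.commutator ↥(P : Subgroup A) := by
      rw [← hWu]
      refine pow_mem ?_ _
      have he : ⁅d, r⁆ = W⁻¹ := by
        rw [commutatorElement_def, hdr, hW, mul_inv_rev, inv_eq_of_mul_eq_one_right D.u2, mul_inv_rev,
          mul_assoc, (hU (r⁻¹ * r⁻¹)).eq]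
      rw [← inv_inv W, ← he]
      exact inv_mem (_root_.commutator_def ↥(P : Subgroup A) ▸ Subgroup.commutator_mem_commutator (mem_top _) (mem_top _))
    obtain ⟨n, hn, hnv⟩ := burnside_pair P D.v D.u (fun s => (hvc s).eq) D.hu hg
    let ψ : ↥(P : Subgroup A) →* ↥(P : Subgroup A) := MonoidHom.mk'
      (fun s => ⟨n⁻¹ * (s : A) * n⁻¹⁻¹, (Subgroup.mem_normalizer_iff.1 (inv_mem hn) _).1 s.2⟩)
      fun a b => Subtype.ext (by simp [mul_assoc])
    have hψu : ψ D.u = D.v := Subtype.ext (by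
      show n⁻¹ * (D.u : A) * n⁻¹⁻¹ = (D.v : A)
      rw [← hnv]; group)
    have hvcomm : D.v ∈ zpowers W := hcomm (by
      have : D.u ∈ (_root_.commutator ↥(P : Subgroup A)).comap ψ := by
        have hle : _root_.commutator ↥(P : Subgroup A) ≤ (_root_.commutator ↥(P : Subgroup A)).comap ψ := by
          rw [_root_.commutator_def, Subgroup.commutator_le]
          intro a _ b _
          rw [Subgroup.mem_comap, map_commutatorElement]
          exact Subgroup.commutator_mem_commutator (mem_top _) (mem_top _)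
        exact hle hucomm
      rwa [Subgroup.mem_comap, hψu] at this)
    refine D.hvu ?_
    exact congrArg Subtype.val (Involution.involution_unique_of_isCyclic
      (a := (⟨D.v, hvcomm⟩ : zpowers W)) (b := ⟨D.u, hWu ▸ pow_mem (mem_zpowers W) _⟩)
      (by rw [Subgroup.orderOf_mk]; exact orderOf_eq_prime ((sq _).trans D.hv2) D.hv1)
      (by rw [Subgroup.orderOf_mk]; exact orderOf_eq_prime ((sq _).trans D.u2) D.u1))

/-- Neither `v` nor `u v` is fused to `u`. -/
theorem not_fused (hperf : Group.IsPerfect A)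
    (hO : ∀ N : Subgroup A, N.Normal → Odd (Nat.card N) → N = ⊥) (P : Sylow 2 A)
    (D : Data ↥(P : Subgroup A)) (g : A) : g * (D.v : A) * g⁻¹ ≠ (D.u : A) := by
  intro hg
  haveI : Fact (Nat.Prime 2) := ⟨Nat.prime_two⟩
  set c' := g * (D.c : A) * g⁻¹ with hc'
  have hPC : (P : Subgroup A) ≤ centralizer {(D.u : A)} := fun a ha b hb => by
    rw [Set.mem_singleton_iff] at hb; subst hb
    exact (congrArg Subtype.val (D.hu ⟨a, ha⟩)).symm
  have hmax : ∀ R : Subgroup A, R ≤ centralizer {(D.u : A)} → IsPGroup 2 R →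
      Nat.card R ≤ Nat.card (P : Subgroup A) := fun R _ hR => sylow_card_max P R hR
  have hc4 : c' ^ 4 = 1 := by
    have : (D.c : A) ^ 4 = 1 := by
      rw [show (4 : ℕ) = 2 + 2 from rfl, pow_add, sq]; exact congrArg Subtype.val D.hc4
    rw [hc', conj_pow, this]; group
  have hc2' : IsPGroup 2 (zpowers c') := by
    obtain ⟨k, -, hk⟩ := (Nat.dvd_prime_pow Nat.prime_two).1
      (orderOf_dvd_of_pow_eq_one hc4 : orderOf c' ∣ 2 ^ 2)
    exact IsPGroup.of_card (n := k) (by rw [Nat.card_zpowers, hk])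
  have hc'C : c' ∈ centralizer {(D.u : A)} := fun b hb => by
    rw [Set.mem_singleton_iff] at hb; subst hb
    have hcv : (D.c : A) * D.v = D.v * D.c := congrArg Subtype.val D.hcv
    rw [hc', ← hg]
    calc g * (D.v : A) * g⁻¹ * (g * D.c * g⁻¹) = g * ((D.v : A) * D.c) * g⁻¹ := by group
      _ = g * ((D.c : A) * D.v) * g⁻¹ := by rw [hcv]
      _ = _ := by group
  obtain ⟨k, hk, hkP⟩ := Perm.FourAct.conj_into hPC P.isPGroup' hmax (zpowers_le.2 hc'C) hc2'
  let d : ↥(P : Subgroup A) := ⟨k * c' * k⁻¹, hkP c' (mem_zpowers c')⟩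
  set e := d * d with he
  have hku : k * (D.u : A) * k⁻¹ = D.u := by
    rw [mul_inv_eq_iff_eq_mul]; exact (hk _ rfl).symm
  have heA : (e : A) = k * g * D.u * (k * g)⁻¹ := by
    show k * c' * k⁻¹ * (k * c' * k⁻¹) = _
    rw [hc', show ((D.u : ↥(P : Subgroup A)) : A) = (D.c : A) * (D.c : A) from rfl]; group
  have heu : e ≠ D.u := fun h => D.hvu (Subtype.ext (by
    have h1 : k * g * (D.u : A) * (k * g)⁻¹ = k * g * (D.v : A) * (k * g)⁻¹ := by
      rw [← heA, h]
      calc (D.u : A) = k * (D.u : A) * k⁻¹ := hku.symm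
        _ = _ := by rw [← hg]; group
    exact (mul_left_cancel (mul_right_cancel h1)).symm))
  have hback : ∀ w : ↥(P : Subgroup A), e = w → (k * g)⁻¹ * (w : A) * (k * g)⁻¹⁻¹ = D.u := by
    intro w hw; rw [← hw, heA]; group
  have he1 : e ≠ 1 := fun h => D.u1 (Subtype.ext (by rw [← hback 1 h]; simp))
  have he2 : e * e = 1 := Subtype.ext (by
    show (e : A) * e = 1
    rw [heA]
    calc k * g * (D.u : A) * (k * g)⁻¹ * (k * g * (D.u : A) * (k * g)⁻¹)
        = k * g * ((D.u : A) * D.u) * (k * g)⁻¹ := by group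
      _ = 1 := by rw [show (D.u : A) * D.u = 1 from congrArg Subtype.val D.u2]; group)
  by_cases heE : e ∈ D.E
  · rcases D.mem_E.1 heE with h | h | h | h
    · exact he1 h
    · exact heu h
    · exact not_square hperf hO P D d h _ (hback _ h)
    · exact not_square hperf hO P D.swap d h _ (hback _ h)
  · exact D.not_sq P.isPGroup' he2 heE rfl

/-- A subgroup containing `v` in neither way but meeting every coset of `⟨v⟩` receives a conjugate
of `v`, other than `u`. -/
theorem fuse_v (hperf : Group.IsPerfect A) (P : Sylow 2 A) (D : Data ↥(P : Subgroup A))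
    (hnf : ∀ g : A, g * (D.v : A) * g⁻¹ ≠ (D.u : A))
    (M : Subgroup ↥(P : Subgroup A)) (hvM : D.v ∉ M) (hM : ∀ b, b ∈ M ∨ b * D.v ∈ M) :
    ∃ m ∈ M, m * m = 1 ∧ m ≠ 1 ∧ m ≠ D.u ∧ ∃ g : A, g * (D.v : A) * g⁻¹ = (m : A) := by
  obtain ⟨g, m, hm, hg⟩ := fuse_into hperf P M D.v D.hv2 hvM hM
  refine ⟨m, hm, Subtype.ext ?_, fun h => ?_, fun h => hnf g (h ▸ hg), g, hg⟩
  · show (m : A) * m = 1
    rw [← hg]
    calc g * (D.v : A) * g⁻¹ * (g * (D.v : A) * g⁻¹) = g * ((D.v : A) * D.v) * g⁻¹ := by group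
      _ = 1 := by rw [show (D.v : A) * D.v = 1 from congrArg Subtype.val D.hv2]; group
  · exact D.hv1 (Subtype.ext (conj_eq_one_iff.1 (hg.trans (congrArg Subtype.val h))))

theorem isolated_central (hO : ∀ N : Subgroup A, N.Normal → Odd (Nat.card N) → N = ⊥)
    (P : Sylow 2 A) {u : A} (hu : orderOf u = 2) (huP : u ∈ P)
    (hiso : ∀ g : A, g * u * g⁻¹ ∈ P → g * u * g⁻¹ = u) : u ∈ center A := by
  obtain ⟨N, hN, hodd, hc⟩ := S0215.result P u hu huP hiso
  rw [Subgroup.mem_center_iff]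
  intro g
  have := hc g
  rw [hO N hN hodd, Subgroup.mem_bot, mul_inv_eq_one, mul_inv_eq_iff_eq_mul] at this
  exact this.symm

end Perfect

end Cfsg.Agent.InvFour5
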