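import Cfsg.Agent.InvFour5.Beta

/-!
Conclusion for a normal invariant four-group centralised by the fixed element of order 4.
-/

set_option autoImplicit false

namespace Cfsg.Agent.InvFour5

open Subgroup
open scoped commutatorElement

namespace Data

variable {A : Type*} [Group A] [Finite A]

theorem exists_odd_pow_mem (P : Sylow 2 A) {n : A}
    (hn : n ∈ normalizer ((P : Subgroup A) : Set A)) : ∃ m, Odd m ∧ n ^ m ∈ P := by
  haveI : Fact (Nat.Prime 2) := ⟨Nat.prime_two⟩
  obtain ⟨k, m, hm, hkm⟩ := Nat.exists_eq_two_pow_mul_odd (orderOf_pos n).ne'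
  refine ⟨m, hm, ?_⟩
  have h2 : IsPGroup 2 (zpowers (n ^ m)) := by
    have hdvd : orderOf (n ^ m) ∣ 2 ^ k := orderOf_dvd_of_pow_eq_one (by
      rw [← pow_mul, mul_comm, ← hkm, pow_orderOf_eq_one])
    obtain ⟨j, -, hj⟩ := (Nat.dvd_prime_pow Nat.prime_two).1 hdvd
    exact IsPGroup.of_card (n := j) (by rw [Nat.card_zpowers, hj])
  have hsup : IsPGroup 2 ↥((P : Subgroup A) ⊔ zpowers (n ^ m)) :=
    IsPGroup.to_sup_of_normal_left' P.isPGroup' h2 (zpowers_le.2 (pow_mem hn m))
  have heq : (P : Subgroup A) ⊔ zpowers (n ^ m) = P := P.3 hsup le_sup_left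
  show n ^ m ∈ (P : Subgroup A)
  rw [← heq]
  exact Subgroup.mem_sup_right (mem_zpowers _)

/-- If all involutions of the Sylow subgroup other than `u` are fused to `v` or `u v`, then `u` is
central. -/
theorem u_central (hO : ∀ N : Subgroup A, N.Normal → Odd (Nat.card N) → N = ⊥) (P : Sylow 2 A)
    (D : Data ↥(P : Subgroup A)) (hnf : ∀ g : A, g * (D.v : A) * g⁻¹ ≠ (D.u : A))
    (hnf' : ∀ g : A, g * ((D.u * D.v : ↥(P : Subgroup A)) : A) * g⁻¹ ≠ (D.u : A))
    (hcl : ∀ m : ↥(P : Subgroup A), m * m = 1 → m = 1 ∨ m = D.u ∨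
      ∃ g : A, g * (D.v : A) * g⁻¹ = m ∨ g * ((D.u * D.v : ↥(P : Subgroup A)) : A) * g⁻¹ = m) :
    (D.u : A) ∈ center A := by
  have hu2 : (D.u : A) * D.u = 1 := congrArg Subtype.val D.u2
  refine isolated_central hO P (orderOf_eq_prime ((sq _).trans hu2)
    fun h => D.u1 (Subtype.ext h)) D.u.2 fun g hg => ?_
  have hw : (⟨_, hg⟩ : ↥(P : Subgroup A)) * ⟨_, hg⟩ = 1 := Subtype.ext (by
    show g * (D.u : A) * g⁻¹ * (g * (D.u : A) * g⁻¹) = 1
    calc g * (D.u : A) * g⁻¹ * (g * (D.u : A) * g⁻¹) = g * ((D.u : A) * D.u) * g⁻¹ := by group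
      _ = 1 := by rw [hu2]; group)
  rcases hcl _ hw with h | h | ⟨g', h | h⟩
  · exact absurd (Subtype.ext (conj_eq_one_iff.1 (congrArg Subtype.val h))) D.u1
  · exact congrArg Subtype.val h
  · refine absurd ?_ (hnf (g⁻¹ * g'))
    calc g⁻¹ * g' * (D.v : A) * (g⁻¹ * g')⁻¹ = g⁻¹ * (g' * (D.v : A) * g'⁻¹) * g := by group
      _ = D.u := by rw [h]; show g⁻¹ * (g * (D.u : A) * g⁻¹) * g = _; group
  · refine absurd ?_ (hnf' (g⁻¹ * g'))
    calc g⁻¹ * g' * ((D.u * D.v : ↥(P : Subgroup A)) : A) * (g⁻¹ * g')⁻¹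
        = g⁻¹ * (g' * ((D.u * D.v : ↥(P : Subgroup A)) : A) * g'⁻¹) * g := by group
      _ = D.u := by rw [h]; show g⁻¹ * (g * (D.u : A) * g⁻¹) * g = _; group

/-- The four-group is the set of all involutions: then it is central, and so in a cyclic derived
group, absurdly. -/
theorem no_other_involution (hperf : Group.IsPerfect A)
    (hO : ∀ N : Subgroup A, N.Normal → Odd (Nat.card N) → N = ⊥) (P : Sylow 2 A)
    (D : Data ↥(P : Subgroup A)) (hnf : ∀ g : A, g * (D.v : A) * g⁻¹ ≠ (D.u : A))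
    (hnf' : ∀ g : A, g * ((D.u * D.v : ↥(P : Subgroup A)) : A) * g⁻¹ ≠ (D.u : A))
    (hJ : ∀ m : ↥(P : Subgroup A), m * m = 1 → m ∈ D.E) : False := by
  haveI : Fact (Nat.Prime 2) := ⟨Nat.prime_two⟩
  have hS : IsPGroup 2 ↥(P : Subgroup A) := P.isPGroup'
  have huc : (D.u : A) ∈ center A := u_central hO P D hnf hnf' fun m hm => by
    rcases D.mem_E.1 (hJ m hm) with h | h | h | h
    exacts [Or.inl h, Or.inr (Or.inl h), Or.inr (Or.inr ⟨1, Or.inl (by rw [h]; simp)⟩),
      Or.inr (Or.inr ⟨1, Or.inr (by rw [h]; simp)⟩)]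
  -- pass to the quotient by `u`
  set u : A := (D.u : A) with hu
  set v : A := (D.v : A) with hv
  have hu2 : u * u = 1 := congrArg Subtype.val D.u2
  have hu1 : u ≠ 1 := fun h => D.u1 (Subtype.ext h)
  have hv2 : v * v = 1 := congrArg Subtype.val D.hv2
  have hmemu : ∀ a ∈ zpowers u, a = 1 ∨ a = u := by
    rintro a ⟨k, rfl⟩
    rcases Int.even_or_odd' k with ⟨l, rfl | rfl⟩
    · left; show u ^ (2 * l) = 1; rw [zpow_mul, zpow_two, hu2, one_zpow]
    · right; show u ^ (2 * l + 1) = u; rw [zpow_add, zpow_mul, zpow_two, hu2, one_zpow, one_mul, zpow_one]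
  haveI hZ : (zpowers u).Normal := ⟨fun a ha g => by
    rw [Subgroup.mem_center_iff.1 ((zpowers_le.2 huc) ha) g, mul_inv_cancel_right]; exact ha⟩
  let π := QuotientGroup.mk' (zpowers u)
  let P' : Sylow 2 (A ⧸ zpowers u) := P.mapSurjective (QuotientGroup.mk'_surjective _)
  have hlift : ∀ a : A, π a ∈ P' → a ∈ P := by
    rintro a ⟨p, hp, hpa⟩
    have h := QuotientGroup.eq.1 hpa
    rcases hmemu _ h with h' | h'
    · exact inv_mul_eq_one.1 h' ▸ hp
    · exact (inv_mul_eq_iff_eq_mul.1 h').symm ▸ mul_mem hp D.u.2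
  have hvu : v ∉ zpowers u := fun h => (hmemu v h).elim (fun e => D.hv1 (Subtype.ext e))
    fun e => D.hvu (Subtype.ext e)
  have hconjv : ∀ g : A, g * v * g⁻¹ ∈ P → g * v * g⁻¹ = v ∨ g * v * g⁻¹ = u * v := by
    intro g hg
    rcases D.mem_E.1 (hJ ⟨_, hg⟩ (Subtype.ext (by
      show g * v * g⁻¹ * (g * v * g⁻¹) = 1
      calc _ = g * (v * v) * g⁻¹ := by group
        _ = 1 := by rw [hv2]; group))) with h | h | h | h
    · exact absurd (Subtype.ext (conj_eq_one_iff.1 (congrArg Subtype.val h))) D.hv1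
    · exact absurd (congrArg Subtype.val h) (hnf g)
    · exact Or.inl (congrArg Subtype.val h)
    · exact Or.inr (congrArg Subtype.val h)
  have hπu : π u = 1 := (QuotientGroup.eq_one_iff u).2 (mem_zpowers u)
  have hiso : ∀ g : A ⧸ zpowers u, g * π v * g⁻¹ ∈ P' → g * π v * g⁻¹ = π v := by
    intro g hg
    obtain ⟨g, rfl⟩ := QuotientGroup.mk'_surjective _ g
    rw [← map_mul, ← map_inv, ← map_mul] at hg ⊢
    rcases hconjv g (hlift _ hg) with h | h <;> rw [h]
    rw [map_mul π u v, hπu, one_mul]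
  have hO' : ∀ N : Subgroup (A ⧸ zpowers u), N.Normal → Odd (Nat.card N) → N = ⊥ := by
    intro N hN hodd
    let N₀ := N.comap π
    haveI hN₀ : N₀.Normal := hN.comap π
    let U₀ := (zpowers u).subgroupOf N₀
    have hle : zpowers u ≤ N₀ := zpowers_le.2 (show π u ∈ N by rw [hπu]; exact one_mem N)
    let f : ↥N₀ →* ↥N := MonoidHom.mk' (fun a => ⟨π a, a.2⟩) fun a b => Subtype.ext (map_mul π _ _)
    have hf : Function.Surjective f := fun ⟨b, hb⟩ => by
      obtain ⟨a, rfl⟩ := QuotientGroup.mk'_surjective _ b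
      exact ⟨⟨a, hb⟩, rfl⟩
    have hker : f.ker = U₀ := by
      ext a
      rw [MonoidHom.mem_ker, Subgroup.mem_subgroupOf, ← QuotientGroup.eq_one_iff]
      exact ⟨fun h => congrArg Subtype.val h, fun h => Subtype.ext h⟩
    haveI : U₀.Normal := hker ▸ f.normal_ker
    have hidx : U₀.index = Nat.card N := by
      rw [← hker, Subgroup.index_ker, MonoidHom.range_eq_top.2 hf, Subgroup.card_top]
    have hcard : Nat.card U₀ = 2 := by
      rw [Nat.card_congr (Subgroup.subgroupOfEquivOfLe hle).toEquiv, Nat.card_zpowers,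
        orderOf_eq_prime ((sq u).trans hu2) hu1]
    obtain ⟨K, hK⟩ := Subgroup.exists_right_complement'_of_coprime (N := U₀) (by
      rw [hcard, hidx]; exact Nat.coprime_two_left.2 hodd)
    have hKcard : Nat.card K = Nat.card N := by
      rw [← hidx]; exact hK.symm.index_eq_card.symm
    have hKidx : K.index = 2 := by rw [← hcard]; exact hK.index_eq_card
    have hKchar : ∀ a : ↥N₀, a ^ Nat.card N = 1 → a ∈ K := by
      intro a ha
      by_contra h
      have hp : ∀ j : ℕ, a ^ (2 * j + 1) ∉ K := fun j => by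
        haveI := Subgroup.normal_of_index_eq_two hKidx
        have h2 : a ^ (2 * j) ∈ K := by
          rw [pow_mul]; exact pow_mem (Subgroup.sq_mem_of_index_two hKidx a) j
        intro hh
        rw [pow_succ] at hh
        exact h ((K.mul_mem_cancel_left h2).1 hh)
      obtain ⟨j, hj⟩ := hodd
      exact hp j (by rw [← hj, ha]; exact one_mem K)
    have hK₁ : (K.map N₀.subtype).Normal := by
      refine ⟨fun a ha g => ?_⟩
      obtain ⟨a, haK, rfl⟩ := Subgroup.mem_map.1 ha
      refine Subgroup.mem_map.2 ⟨⟨g * (a : A) * g⁻¹, hN₀.conj_mem _ a.2 g⟩, hKchar _ (Subtype.ext ?_), rfl⟩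
      have h1 : (a : A) ^ Nat.card N = 1 := by
        rw [← Subgroup.coe_pow, ← hKcard]
        exact congrArg Subtype.val (congrArg Subtype.val (pow_card_eq_one' (x := (⟨a, haK⟩ : ↥K))))
      rw [Subgroup.coe_pow, conj_pow, h1]
      simp
    have hbot := hO _ hK₁ (by
      rw [Subgroup.card_map_of_injective (Subgroup.subtype_injective _), hKcard]; exact hodd)
    rw [← Subgroup.card_eq_one, ← hKcard, ← Subgroup.card_map_of_injective (Subgroup.subtype_injective N₀),
      hbot, Subgroup.card_bot]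
  have hvc' := isolated_central hO' P' (u := π v) (orderOf_eq_prime
    (by rw [sq, ← map_mul, hv2, map_one]) (fun h => hvu ((QuotientGroup.eq_one_iff v).1 h)))
    ⟨v, D.v.2, rfl⟩ hiso
  have hall : ∀ g : A, g * v * g⁻¹ = v ∨ g * v * g⁻¹ = u * v := by
    intro g
    have h := Subgroup.mem_center_iff.1 hvc' (π g)
    rw [← map_mul, ← map_mul] at h
    rcases hmemu _ (QuotientGroup.eq.1 h.symm) with h' | h'
    · left; rw [← inv_mul_eq_one.1 h', mul_inv_cancel_right]
    · right
      rw [inv_mul_eq_iff_eq_mul.1 h']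
      calc v * g * u * g⁻¹ = v * (g * u) * g⁻¹ := by group
        _ = v * (u * g) * g⁻¹ := by rw [Subgroup.mem_center_iff.1 huc g]
        _ = v * u := by group
        _ = u * v := Subgroup.mem_center_iff.1 huc v
  have hvc : v ∈ center A := by
    rw [Subgroup.mem_center_iff]
    intro g
    by_contra hne
    let C := centralizer ({v} : Set A)
    have hmem : ∀ a, a ∈ C ↔ a * v * a⁻¹ = v := fun a =>
      ⟨fun h => mul_inv_eq_iff_eq_mul.2 (h v rfl).symm, fun h b hb => by
        rw [Set.mem_singleton_iff] at hb; subst hb; exact (mul_inv_eq_iff_eq_mul.1 h).symm⟩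
    have hg : g ∉ C := fun h => hne (h v rfl).symm
    have hgv : g * v * g⁻¹ = u * v := (hall g).resolve_left fun h => hg ((hmem g).2 h)
    have hidx : C.index = 2 := by
      rw [Subgroup.index_eq_two_iff]
      refine ⟨g, fun b => ?_⟩
      have e : b * g * v * (b * g)⁻¹ = u * (b * v * b⁻¹) := by
        calc b * g * v * (b * g)⁻¹ = b * (g * v * g⁻¹) * b⁻¹ := by group
          _ = (b * u) * v * b⁻¹ := by rw [hgv]; group
          _ = _ := by rw [Subgroup.mem_center_iff.1 huc b]; group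
      rcases hall b with h | h
      · refine Or.inr ⟨(hmem b).2 h, fun h' => ?_⟩
        have := (hmem _).1 h'
        rw [e, h] at this
        exact hu1 (mul_eq_right.1 this)
      · refine Or.inl ⟨(hmem _).2 ?_, fun h' => ?_⟩
        · rw [e, h, ← mul_assoc, hu2, one_mul]
        · rw [(hmem b).1 h'] at h
          exact hu1 (mul_eq_right.1 h.symm)
    haveI := Subgroup.normal_of_index_eq_two hidx
    exact not_index_two hperf C hidx
  -- the derived group of the Sylow subgroup is cyclic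
  have hu' : D.u ∈ _root_.commutator ↥(P : Subgroup A) := central_mem_commutator hperf P D.u huc
  have hv' : D.v ∈ _root_.commutator ↥(P : Subgroup A) := central_mem_commutator hperf P D.v hvc
  have hE : ∀ e ∈ D.E, ∀ s, Commute s e := by
    intro e he s
    have hu₀ : Commute s D.u := D.hu s
    have hv₀ : Commute s D.v := Subtype.ext (Subgroup.mem_center_iff.1 hvc (s : A))
    rcases D.mem_E.1 he with rfl | rfl | rfl | rfl
    exacts [Commute.one_right _, hu₀, hv₀, hu₀.mul_right hv₀]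
  obtain ⟨r', -, hidx⟩ := exists_cyclic_index_two (Nat.card (↥(P : Subgroup A) ⧸ D.E)) _ le_rfl
    (hS.to_quotient D.E) D.φq D.φq_invol _ D.fix_q
  obtain ⟨r, rfl⟩ := QuotientGroup.mk'_surjective _ r'
  set P₁ := (zpowers (QuotientGroup.mk' D.E r)).comap (QuotientGroup.mk' D.E) with hP₁
  have hP₁r : ∀ s ∈ P₁, ∃ i : ℤ, ∃ e ∈ D.E, s = r ^ i * e := by
    rintro s ⟨i, hi⟩
    refine ⟨i, _, QuotientGroup.eq.1 (show QuotientGroup.mk' D.E (r ^ i) = QuotientGroup.mk' D.E s by
      rw [map_zpow]; exact hi), by group⟩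
  have hab : ∀ s ∈ P₁, ∀ s' ∈ P₁, Commute s s' := by
    intro s hs s' hs'
    obtain ⟨i, e, he, rfl⟩ := hP₁r s hs
    obtain ⟨j, e', he', rfl⟩ := hP₁r s' hs'
    exact (((Commute.refl r).zpow_zpow i j).mul_right (hE e' he' _)).mul_left (hE e he _).symm
  have hidx' : P₁.index ≤ 2 := by
    rwa [hP₁, Subgroup.index_comap_of_surjective _ (QuotientGroup.mk'_surjective _)]
  have hne1 : P₁.index ≠ 1 := fun h => by
    have hbot : _root_.commutator ↥(P : Subgroup A) ≤ ⊥ := by
      rw [_root_.commutator_def, Subgroup.commutator_le]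
      intro a _ b _
      rw [Subgroup.mem_bot, commutatorElement_eq_one_iff_mul_comm]
      have ht := Subgroup.index_eq_one.1 h
      exact hab a (ht ▸ mem_top a) b (ht ▸ mem_top b)
    exact D.hv1 (Subgroup.mem_bot.1 (hbot hv'))
  have h2 : P₁.index = 2 := by have := Subgroup.index_ne_zero_of_finite (H := P₁); omega
  haveI hn₁ := Subgroup.normal_of_index_eq_two h2
  obtain ⟨a, ha⟩ : ∃ a, a ∉ P₁ := by
    by_contra hh
    push Not at hh
    exact hne1 (Subgroup.index_eq_one.2 ((eq_top_iff' P₁).2 hh))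
  have hrP : r ∈ P₁ := mem_zpowers _
  set w := ⁅r, a⁆ with hw
  have hwP : w ∈ P₁ := by
    rw [hw, commutatorElement_def, mul_assoc, mul_assoc]
    exact mul_mem hrP (by simpa [mul_assoc] using hn₁.conj_mem _ (inv_mem hrP) a)
  have haa : a * a ∈ P₁ := Subgroup.mul_self_mem_of_index_two h2 a
  have hwa : a * w * a⁻¹ = w⁻¹ := by
    have h : Commute (a * a) r⁻¹ := hab _ haa _ (inv_mem hrP)
    calc a * ⁅r, a⁆ * a⁻¹ = a * r * a⁻¹ * ((a * a) * r⁻¹ * (a * a)⁻¹) := by
          rw [commutatorElement_def]; group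
      _ = a * r * a⁻¹ * r⁻¹ := by rw [h.eq, mul_inv_cancel_right]
      _ = ⁅r, a⁆⁻¹ := by rw [commutatorElement_def]; group
  haveI hK : (zpowers w).Normal := by
    refine ⟨fun b hb s => ?_⟩
    obtain ⟨k, rfl⟩ := hb
    show s * w ^ k * s⁻¹ ∈ zpowers w
    by_cases hs : s ∈ P₁
    · rw [((hab s hs w hwP).zpow_right k).eq, mul_inv_cancel_right]
      exact zpow_mem_zpowers w k
    · have hsa : a⁻¹ * s ∈ P₁ :=
        (Subgroup.mul_mem_iff_of_index_two h2).2 (iff_of_false (fun h => ha (by simpa using inv_mem h)) hs)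
      have : s * w ^ k * s⁻¹ = a * ((a⁻¹ * s) * w ^ k * (a⁻¹ * s)⁻¹) * a⁻¹ := by group
      rw [this, ((hab _ hsa w hwP).zpow_right k).eq, mul_inv_cancel_right, ← conj_zpow, hwa]
      exact zpow_mem (inv_mem (mem_zpowers w)) k
  let τ := QuotientGroup.mk' (zpowers w)
  have hτ : Commute (τ r) (τ a) := by
    have : τ ⁅r, a⁆ = 1 := (QuotientGroup.eq_one_iff w).2 (mem_zpowers w)
    rwa [map_commutatorElement, commutatorElement_eq_one_iff_mul_comm] at this
  have hτa : ∀ s ∈ P₁, Commute (τ s) (τ a) := by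
    intro s hs
    obtain ⟨i, e, he, rfl⟩ := hP₁r s hs
    rw [map_mul, map_zpow]
    exact (hτ.zpow_left i).mul_left ((hE e he a).symm.map τ)
  have hcomm : _root_.commutator ↥(P : Subgroup A) ≤ zpowers w := by
    rw [_root_.commutator_def, Subgroup.commutator_le]
    intro x _ y _
    refine (QuotientGroup.eq_one_iff (N := zpowers w) _).1 ?_
    show τ ⁅x, y⁆ = 1
    rw [map_commutatorElement, commutatorElement_eq_one_iff_mul_comm]
    have hdec : ∀ s, ∃ p ∈ P₁, s = p ∨ s = p * a := by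
      intro s
      by_cases hs : s ∈ P₁
      · exact ⟨s, hs, Or.inl rfl⟩
      · exact ⟨s * a⁻¹, (Subgroup.mul_mem_iff_of_index_two h2).2
          (iff_of_false hs fun h => ha (by simpa using inv_mem h)), Or.inr (by group)⟩
    obtain ⟨p, hp, hx⟩ := hdec x
    obtain ⟨p', hp', hy⟩ := hdec y
    have hpp : Commute (τ p) (τ p') := (hab p hp p' hp').map τ
    rcases hx with rfl | rfl <;> rcases hy with rfl | rfl <;> (try simp only [map_mul])
    · exact hpp.eq
    · exact (hpp.mul_right (hτa _ hp)).eq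
    · exact (hpp.mul_left (hτa _ hp').symm).eq
    · exact ((hpp.mul_right (hτa _ hp)).mul_left ((hτa _ hp').symm.mul_right (Commute.refl _))).eq
  refine D.hvu ?_
  exact congrArg Subtype.val (Involution.involution_unique_of_isCyclic
    (a := (⟨D.v, hcomm hv'⟩ : zpowers w)) (b := ⟨D.u, hcomm hu'⟩)
    (by rw [Subgroup.orderOf_mk]; exact orderOf_eq_prime ((sq _).trans D.hv2) D.hv1)
    (by rw [Subgroup.orderOf_mk]; exact orderOf_eq_prime ((sq _).trans D.u2) D.u1))

/-- There is no such configuration in a perfect group without odd core. -/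
theorem false_of_data (hperf : Group.IsPerfect A)
    (hO : ∀ N : Subgroup A, N.Normal → Odd (Nat.card N) → N = ⊥) (P : Sylow 2 A)
    (D : Data ↥(P : Subgroup A)) : False := by
  haveI : Fact (Nat.Prime 2) := ⟨Nat.prime_two⟩
  have hS : IsPGroup 2 ↥(P : Subgroup A) := P.isPGroup'
  have hnf : ∀ g : A, g * (D.v : A) * g⁻¹ ≠ (D.u : A) := not_fused hperf hO P D
  have hnf' : ∀ g : A, g * ((D.u * D.v : ↥(P : Subgroup A)) : A) * g⁻¹ ≠ (D.u : A) :=
    not_fused hperf hO P D.swap
  by_cases hJ : ∀ m : ↥(P : Subgroup A), m * m = 1 → m ∈ D.E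
  · exact no_other_involution hperf hO P D hnf hnf' hJ
  push Not at hJ
  obtain ⟨x, hx, hxE⟩ := hJ
  set y := D.φ x with hy
  set r := x * y with hr
  have hy2 : y * y = 1 := by rw [hy, ← map_mul, hx, map_one]
  have hxu : x * x ≠ D.u := by rw [hx]; exact D.u1.symm
  have hgen : ∀ s, ∃ i : ℤ, ∃ e ∈ D.E, s = r ^ i * e ∨ s = r ^ i * x * e :=
    D.gen hS (hx.symm ▸ one_mem _) hxE hxu
  have hxr : x * r * x⁻¹ = r⁻¹ := mul_inverts hx hy2
  have hφr : D.φ r = r⁻¹ := by
    rw [hr, map_mul, hy, D.hφ, ← hy, mul_inv_rev, inv_eq_of_mul_eq_one_right hx,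
      inv_eq_of_mul_eq_one_right hy2]
  clear_value r
  have hne : D.φq (QuotientGroup.mk' D.E x) ≠ QuotientGroup.mk' D.E x := D.not_fixed hxu hxE
  have hrne : r ≠ 1 ∧ r ≠ D.u := by
    have key : ∀ e ∈ D.E, r ≠ e := fun e he h => hne (by
      rw [D.φq_mk, ← hy]
      have hye : x⁻¹ * y ∈ D.E := by
        rw [inv_eq_of_mul_eq_one_right hx, ← hr, h]; exact he
      exact (QuotientGroup.eq.2 hye).symm)
    exact ⟨key 1 (one_mem _), key D.u (D.mem_E.2 (Or.inr (Or.inl rfl)))⟩
  -- the involution of `⟨r⟩` is `u`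
  have hinv : ∀ i : ℤ, r ^ i * r ^ i = 1 → r ^ i = 1 ∨ r ^ i = D.u := by
    intro i hi
    have hf : D.φ (r ^ i) = r ^ i := by
      rw [map_zpow, hφr, inv_zpow]; exact inv_eq_of_mul_eq_one_right hi
    rcases D.hfix _ hf with h | h | h | h
    · exact Or.inl h
    · exact Or.inr h
    · rw [h] at hi; exact absurd hi D.hc2
    · rw [h] at hi
      refine absurd ?_ D.hc2
      calc D.c * D.c = (D.c * D.c) * ((D.c * D.c) * (D.c * D.c)) := by rw [D.hc4, mul_one]
        _ = D.c * (D.c * D.c) * (D.c * (D.c * D.c)) := by group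
        _ = 1 := hi
  obtain ⟨k, hk⟩ := IsPGroup.iff_orderOf.1 hS r
  obtain ⟨m, rfl⟩ : ∃ m, k = m + 1 := Nat.exists_eq_add_one.2
    (Nat.pos_of_ne_zero fun h0 => hrne.1 (orderOf_eq_one_iff.1 (by simp [hk, h0])))
  have hru : r ^ ((2 : ℤ) ^ m) = D.u := by
    have h1 : r ^ 2 ^ m ≠ 1 := pow_ne_one_of_lt_orderOf (pow_ne_zero m two_ne_zero)
      (by rw [hk]; exact Nat.pow_lt_pow_right one_lt_two (Nat.lt_succ_self m))
    have h2 : r ^ 2 ^ m * r ^ 2 ^ m = 1 := by
      rw [← pow_add, ← two_mul, ← pow_succ', ← hk, pow_orderOf_eq_one]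
    have e : r ^ ((2 : ℤ) ^ m) = r ^ 2 ^ m := by rw [← zpow_natCast]; norm_num
    rw [e]
    refine ((hinv (2 ^ m : ℕ) (by rwa [zpow_natCast])).resolve_left (by rwa [zpow_natCast])).symm ▸ ?_
    rw [zpow_natCast]
  have hur : D.u ∈ zpowers r := hru ▸ zpow_mem_zpowers r _
  have hU : ∀ s, Commute s D.u := D.hu
  have hcover : ∀ (M : Subgroup ↥(P : Subgroup A)), r ∈ M → (x ∈ M ∨ x * D.v ∈ M) →
      (Commute x D.v ∨ x * D.v ∈ M) → (∀ a ∈ M, D.v * a * D.v⁻¹ ∈ M) →
      ∀ b, b ∈ M ∨ b * D.v ∈ M := by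
    intro M hrM hxM _ hnM
    have huM : D.u ∈ M := (zpowers_le.2 hrM) hur
    have hmul : ∀ a b, (a ∈ M ∨ a * D.v ∈ M) → (b ∈ M ∨ b * D.v ∈ M) →
        (a * b ∈ M ∨ a * b * D.v ∈ M) := by
      have hvi : D.v⁻¹ = D.v := inv_eq_of_mul_eq_one_right D.hv2
      intro a b ha hb
      rcases ha with ha | ha <;> rcases hb with hb | hb
      · exact Or.inl (mul_mem ha hb)
      · exact Or.inr (by rw [mul_assoc]; exact mul_mem ha hb)
      · refine Or.inr ?_
        have h := mul_mem ha (hnM b hb)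
        have e : a * D.v * (D.v * b * D.v⁻¹) = a * (D.v * D.v) * b * D.v⁻¹ := by group
        rwa [e, D.hv2, mul_one, hvi] at h
      · refine Or.inl ?_
        have h := mul_mem ha (hnM _ hb)
        have e : a * D.v * (D.v * (b * D.v) * D.v⁻¹) = a * (D.v * D.v) * b := by group
        rwa [e, D.hv2, mul_one] at h
    intro b
    have hEM : ∀ e ∈ D.E, e ∈ M ∨ e * D.v ∈ M := by
      intro e he
      rcases D.mem_E.1 he with rfl | rfl | rfl | rfl
      · exact Or.inl (one_mem _)
      · exact Or.inl huM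
      · exact Or.inr (by rw [D.hv2]; exact one_mem _)
      · exact Or.inr (by rw [mul_assoc, D.hv2, mul_one]; exact huM)
    obtain ⟨i, e, he, rfl | rfl⟩ := hgen b
    · exact hmul _ _ (Or.inl (zpow_mem hrM i)) (hEM e he)
    · exact hmul _ _ (hmul _ _ (Or.inl (zpow_mem hrM i)) hxM) (hEM e he)
  have hyv : y = x * r := by rw [hr, ← mul_assoc, hx, one_mul]
  by_cases hxv : Commute x D.v
  · -- everything centralises the four-group
    have hyv' : Commute y D.v := by
      have h := congrArg D.φ hxv.eq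
      rw [map_mul, map_mul, ← hy, D.hφv] at h
      have h1 : Commute y (D.u * D.v) := h
      have h2 := (hU y).mul_right h1
      rwa [← mul_assoc, D.u2, one_mul] at h2
    have hrv : Commute r D.v := hr ▸ hxv.mul_left hyv'
    have hvc : ∀ s, Commute s D.v := by
      intro s
      obtain ⟨i, e, he, h⟩ := hgen s
      have hev : Commute e D.v := by
        rcases D.mem_E.1 he with rfl | rfl | rfl | rfl
        exacts [Commute.one_left _, (hU D.v).symm, Commute.refl _,
          (hU D.v).symm.mul_left (Commute.refl _)]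
      rcases h with rfl | rfl
      · exact (hrv.zpow_left i).mul_left hev
      · exact ((hrv.zpow_left i).mul_left hxv).mul_left hev
    let D' := D.swap
    have hxz : ∀ z, Commute z r → Commute z x → z * z = 1 → ¬ Commute (x * z) r := by
      intro z hzr _ _ h
      have hxr' : Commute x r := by
        have := h.mul_left hzr.inv_left
        rwa [mul_inv_cancel_right] at this
      rw [hxr'.eq, mul_inv_cancel_right] at hxr
      rcases hinv 1 (by simp only [zpow_one]; nth_rewrite 2 [hxr]; exact mul_inv_cancel r) with h' | h' <;>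
        rw [zpow_one] at h'
      exacts [hrne.1 h', hrne.2 h']
    have hcomm' : ∀ w ∈ D.E, ∀ z, Commute z w := by
      intro w hw z
      rcases D.mem_E.1 hw with rfl | rfl | rfl | rfl
      exacts [Commute.one_right _, hU z, hvc z, (hU z).mul_right (hvc z)]
    -- each reflection is fused to `v`, and to `u v`
    have hrefl : ∀ z, z ∈ D.E → ∀ w : ↥(P : Subgroup A), (w = D.v ∨ w = D.u * D.v) →
        ∃ g : A, g * (w : A) * g⁻¹ = ((x * z : ↥(P : Subgroup A)) : A) ∨
          g * (w : A) * g⁻¹ = ((r⁻¹ * x * z : ↥(P : Subgroup A)) : A) := by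
      intro z hz w hw
      have hzr : Commute z r := (hcomm' z hz r).symm
      have hzx : Commute x z := hcomm' z hz x
      have hz2 : z * z = 1 := D.sq_of_mem hz
      have hX2 : (x * z) * (x * z) = 1 := by
        rw [hzx.symm.mul_mul_mul_comm, hx, hz2, mul_one]
      have hXr : (x * z) * r * (x * z)⁻¹ = r⁻¹ := by
        calc (x * z) * r * (x * z)⁻¹ = x * (z * r * z⁻¹) * x⁻¹ := by group
          _ = r⁻¹ := by rw [hzr.eq, mul_inv_cancel_right, hxr]
      have hXX : (x * z) * (x * z) ∈ zpowers r := hX2.symm ▸ one_mem _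
      let M := dih r (x * z) hXr hXX
      have hrM : r ∈ M := ⟨1, Or.inl (zpow_one r).symm⟩
      have huM : D.u ∈ M := (zpowers_le.2 hrM) hur
      have hvM : D.v ∉ M := by
        rintro ⟨i, h | h⟩
        · rcases hinv i (by rw [← h]; exact D.hv2) with h' | h' <;> rw [← h] at h'
          exacts [D.hv1 h', D.hvu h']
        · refine hxz z hzr hzx.symm hz2 ?_
          have : x * z = r ^ (-i) * D.v := by rw [h]; group
          rw [this]
          exact ((Commute.refl r).zpow_left _).mul_left hrv.symm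
      have hwM : w ∉ M := by
        rcases hw with rfl | rfl
        · exact hvM
        · intro h
          have := mul_mem (inv_mem huM) h
          rw [inv_mul_cancel_left] at this
          exact hvM this
      have hxM : x ∈ M ∨ x * D.v ∈ M := by
        have h1 : x * z ∈ M := ⟨0, Or.inr (by simp)⟩
        rcases D.mem_E.1 hz with rfl | rfl | rfl | rfl
        · exact Or.inl (by simpa using h1)
        · exact Or.inl (by simpa [mul_assoc, D.u2] using mul_mem h1 huM)
        · exact Or.inr h1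
        · refine Or.inr ?_
          have := mul_mem h1 huM
          rwa [mul_assoc x, mul_assoc D.u, ← (hU D.v).eq.symm, ← mul_assoc D.u D.u, D.u2, one_mul] at this
      have hnM : ∀ a ∈ M, D.v * a * D.v⁻¹ ∈ M := fun a ha => by
        rwa [(hvc a).eq.symm, mul_inv_cancel_right]
      have hcov := hcover M hrM hxM (Or.inl hxv) hnM
      have hcov' : ∀ b, b ∈ M ∨ b * w ∈ M := by
        intro b
        rcases hcov b with h | h
        · exact Or.inl h
        · rcases hw with rfl | rfl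
          · exact Or.inr h
          · right
            have := mul_mem h huM
            rwa [mul_assoc, ← (hU D.v).eq.symm] at this
      have hw2 : w * w = 1 := by rcases hw with rfl | rfl; exacts [D.hv2, D.uv2]
      obtain ⟨g, n, hn, hg⟩ := fuse_into hperf P M w hw2 hwM hcov'
      have hn2 : n * n = 1 := Subtype.ext (by
        show (n : A) * n = 1
        rw [← hg]
        calc g * (w : A) * g⁻¹ * (g * (w : A) * g⁻¹) = g * ((w : A) * w) * g⁻¹ := by group
          _ = 1 := by rw [show (w : A) * w = 1 from congrArg Subtype.val hw2]; group)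
      obtain ⟨i, h | h⟩ := hn
      · exfalso
        rcases hinv i (by rw [← h]; exact hn2) with h' | h' <;> rw [← h] at h'
        · rw [h'] at hg
          have : w = 1 := Subtype.ext (conj_eq_one_iff.1 hg)
          exact hwM (this ▸ one_mem M)
        · rw [h'] at hg
          rcases hw with rfl | rfl
          exacts [hnf g hg, hnf' g hg]
      · rcases Int.even_or_odd' i with ⟨j, rfl | rfl⟩
        · refine ⟨((r ^ j : ↥(P : Subgroup A)) : A)⁻¹ * g, Or.inl ?_⟩
          have e : n = r ^ j * (x * z) * (r ^ j)⁻¹ := by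
            rw [mul_assoc, ← zpow_neg, swap_zpow hXr, neg_neg, ← mul_assoc, ← zpow_add, h]
            congr 2; ring
          have e' : (n : A) = ((r ^ j : ↥(P : Subgroup A)) : A) * ((x * z : ↥(P : Subgroup A)) : A) *
              ((r ^ j : ↥(P : Subgroup A)) : A)⁻¹ := congrArg Subtype.val e
          rw [e'] at hg
          generalize ((r ^ j : ↥(P : Subgroup A)) : A) = R at hg ⊢
          calc R⁻¹ * g * (w : A) * (R⁻¹ * g)⁻¹ = R⁻¹ * (g * (w : A) * g⁻¹) * R := by group
            _ = _ := by rw [hg]; group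
        · refine ⟨((r ^ (j + 1) : ↥(P : Subgroup A)) : A)⁻¹ * g, Or.inr ?_⟩
          have e : n = r ^ (j + 1) * (r⁻¹ * x * z) * (r ^ (j + 1))⁻¹ := by
            rw [mul_assoc r⁻¹ x z, mul_assoc (r ^ (j + 1)), mul_assoc r⁻¹, ← zpow_neg, swap_zpow hXr,
              neg_neg, ← mul_assoc, ← mul_assoc, ← zpow_neg_one, ← zpow_add, ← zpow_add, h]
            congr 2; ring
          have e' : (n : A) = ((r ^ (j + 1) : ↥(P : Subgroup A)) : A) *
              ((r⁻¹ * x * z : ↥(P : Subgroup A)) : A) *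
              ((r ^ (j + 1) : ↥(P : Subgroup A)) : A)⁻¹ := congrArg Subtype.val e
          rw [e'] at hg
          generalize ((r ^ (j + 1) : ↥(P : Subgroup A)) : A) = R at hg ⊢
          calc R⁻¹ * g * (w : A) * (R⁻¹ * g)⁻¹ = R⁻¹ * (g * (w : A) * g⁻¹) * R := by group
            _ = _ := by rw [hg]; group
    -- `v` is not fused to `u v`
    have hsep : ∀ g : A, g * (D.v : A) * g⁻¹ ≠ ((D.u * D.v : ↥(P : Subgroup A)) : A) := by
      intro g hg
      obtain ⟨n, hn, hnv⟩ := burnside_pair P D.v (D.u * D.v) (fun s => (hvc s).eq)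
        (fun s => ((hU s).mul_right (hvc s)).eq) hg
      let q : ↥(P : Subgroup A) := ⟨n * (D.u : A) * n⁻¹, (Subgroup.mem_normalizer_iff.1 hn _).1 D.u.2⟩
      have hq2 : q * q = 1 := Subtype.ext (by
        show n * (D.u : A) * n⁻¹ * (n * (D.u : A) * n⁻¹) = 1
        calc _ = n * ((D.u : A) * D.u) * n⁻¹ := by group
          _ = 1 := by rw [show (D.u : A) * D.u = 1 from congrArg Subtype.val D.u2]; group)
      have hqc : ∀ s, Commute s q := by
        intro s
        have hs : n⁻¹ * (s : A) * n⁻¹⁻¹ ∈ P := (Subgroup.mem_normalizer_iff.1 (inv_mem hn) _).1 s.2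
        have h : n⁻¹ * (s : A) * n⁻¹⁻¹ * D.u = D.u * (n⁻¹ * (s : A) * n⁻¹⁻¹) :=
          congrArg Subtype.val (D.hu ⟨_, hs⟩)
        refine Subtype.ext ?_
        show (s : A) * (n * (D.u : A) * n⁻¹) = n * (D.u : A) * n⁻¹ * s
        calc (s : A) * (n * (D.u : A) * n⁻¹) = n * (n⁻¹ * (s : A) * n⁻¹⁻¹ * D.u) * n⁻¹ := by group
          _ = n * ((D.u : A) * (n⁻¹ * (s : A) * n⁻¹⁻¹)) * n⁻¹ := by rw [h]
          _ = _ := by group
      have hqE : q ∈ D.E := by
        obtain ⟨i, e, he, h | h⟩ := hgen q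
        · have hee : Commute e (r ^ i) := (hcomm' e he _).symm
          rcases hinv i (by
            have := hq2
            rw [h, hee.mul_mul_mul_comm, D.sq_of_mem he, mul_one] at this
            exact this) with h' | h' <;> rw [h, h']
          exacts [by simpa using he, mul_mem (D.mem_E.2 (Or.inr (Or.inl rfl))) he]
        · exfalso
          refine hxz 1 (Commute.one_left _) (Commute.one_left _) (one_mul 1) ?_
          have hx' : x * 1 = r ^ (-i) * q * e⁻¹ := by rw [h]; group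
          rw [hx']
          exact (((Commute.refl r).zpow_left _).mul_left (hqc r).symm).mul_left
            (hcomm' e he r).symm.inv_left
      have hqu : n * (D.u : A) * n⁻¹ = D.u := by
        rcases D.mem_E.1 hqE with h | h | h | h
        · exact absurd (Subtype.ext (conj_eq_one_iff.1 (congrArg Subtype.val h))) D.u1
        · exact congrArg Subtype.val h
        · refine absurd ?_ (hnf n⁻¹)
          rw [← show n * (D.u : A) * n⁻¹ = (D.v : A) from congrArg Subtype.val h]; group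
        · refine absurd ?_ (hnf' n⁻¹)
          rw [← show n * (D.u : A) * n⁻¹ = ((D.u * D.v : ↥(P : Subgroup A)) : A) from congrArg Subtype.val h]
          group
      have hn2 : Commute (n * n) (D.v : A) := by
        refine mul_inv_eq_iff_eq_mul.1 ?_
        calc n * n * (D.v : A) * (n * n)⁻¹ = n * (n * (D.v : A) * n⁻¹) * n⁻¹ := by group
          _ = n * ((D.u : A) * D.v) * n⁻¹ := by rw [hnv]; rfl
          _ = (n * (D.u : A) * n⁻¹) * (n * (D.v : A) * n⁻¹) := by group
          _ = (D.u : A) * ((D.u : A) * D.v) := by rw [hqu, hnv]; rfl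
          _ = D.v := by rw [← mul_assoc, show (D.u : A) * D.u = 1 from congrArg Subtype.val D.u2, one_mul]
      obtain ⟨l, hl, hlP⟩ := exists_odd_pow_mem P hn
      obtain ⟨j, rfl⟩ := hl
      have hfull : Commute (n ^ (2 * j + 1)) (D.v : A) := congrArg Subtype.val (hvc ⟨_, hlP⟩)
      have hnn : Commute n (D.v : A) := by
        have := (hn2.pow_left j).inv_left.mul_left hfull
        rwa [pow_succ, pow_mul, sq, inv_mul_cancel_left] at this
      rw [hnn.eq, mul_inv_cancel_right] at hnv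
      exact D.uvv (Subtype.ext hnv.symm)
    -- hence `u` is isolated
    have hvu : ∀ z, z ∈ D.E → ∀ a : ↥(P : Subgroup A), a = x * z ∨ a = r⁻¹ * x * z →
        ∃ g : A, g * (D.v : A) * g⁻¹ = a ∨ g * ((D.u * D.v : ↥(P : Subgroup A)) : A) * g⁻¹ = a := by
      intro z hz a ha
      obtain ⟨g₁, h₁⟩ := hrefl z hz D.v (Or.inl rfl)
      obtain ⟨g₂, h₂⟩ := hrefl z hz (D.u * D.v) (Or.inr rfl)
      have hne : ∀ b : ↥(P : Subgroup A), g₁ * (D.v : A) * g₁⁻¹ = b →
          g₂ * ((D.u * D.v : ↥(P : Subgroup A)) : A) * g₂⁻¹ = b → False := by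
        intro b hb₁ hb₂
        refine hsep (g₂⁻¹ * g₁) ?_
        rw [← hb₁] at hb₂
        calc g₂⁻¹ * g₁ * (D.v : A) * (g₂⁻¹ * g₁)⁻¹ = g₂⁻¹ * (g₁ * (D.v : A) * g₁⁻¹) * g₂ := by group
          _ = _ := by rw [← hb₂]; group
      rcases ha with rfl | rfl <;> rcases h₁ with h₁ | h₁ <;> rcases h₂ with h₂ | h₂
      all_goals first
        | exact ⟨g₁, Or.inl h₁⟩
        | exact ⟨g₂, Or.inr h₂⟩
        | exact (hne _ h₁ h₂).elim
    have hconjr : ∀ (i : ℤ) (e : ↥(P : Subgroup A)), e ∈ D.E → ∃ R : ↥(P : Subgroup A),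
        R * (r ^ i * x * e) * R⁻¹ = x * e ∨ R * (r ^ i * x * e) * R⁻¹ = r⁻¹ * x * e := by
      intro i e he
      have hmove : ∀ R, R * (r ^ i * x * e) * R⁻¹ = R * (r ^ i * x) * R⁻¹ * e := fun R => by
        rw [← mul_assoc R (r ^ i * x), mul_assoc _ e, ((hcomm' e he R).inv_left).symm.eq, ← mul_assoc]
      rcases Int.even_or_odd' i with ⟨j, rfl | rfl⟩
      · refine ⟨r ^ (-j), Or.inl ?_⟩
        rw [hmove]
        congr 1
        rw [← zpow_neg, neg_neg, ← mul_assoc, mul_assoc _ x, swap_zpow hxr, ← mul_assoc, ← zpow_add,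
          ← zpow_add, show -j + 2 * j + -j = 0 by ring, zpow_zero, one_mul]
      · refine ⟨r ^ (-(j + 1)), Or.inr ?_⟩
        rw [hmove]
        congr 1
        rw [← zpow_neg, neg_neg, ← mul_assoc, mul_assoc _ x, swap_zpow hxr, ← mul_assoc, ← zpow_add,
          ← zpow_add, show -(j + 1) + (2 * j + 1) + -(j + 1) = -1 by ring, zpow_neg_one]
    have huc : (D.u : A) ∈ center A := u_central hO P D hnf hnf' (by
      intro a ha
      obtain ⟨i, e, he, h | h⟩ := hgen a
      · have hee : Commute e (r ^ i) := (hcomm' e he _).symm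
        have hin : a ∈ D.E := by
          rcases hinv i (by rw [h, hee.mul_mul_mul_comm, D.sq_of_mem he, mul_one] at ha; exact ha)
            with h' | h' <;> rw [h, h']
          exacts [by simpa using he, mul_mem (D.mem_E.2 (Or.inr (Or.inl rfl))) he]
        rcases D.mem_E.1 hin with h1 | h1 | h1 | h1
        exacts [Or.inl h1, Or.inr (Or.inl h1), Or.inr (Or.inr ⟨1, Or.inl (by rw [h1]; simp)⟩),
          Or.inr (Or.inr ⟨1, Or.inr (by rw [h1]; simp)⟩)]
      · right; right
        obtain ⟨R, hR⟩ := hconjr i e he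
        obtain ⟨g, hg⟩ := hvu e he (R * a * R⁻¹) (h ▸ hR)
        refine ⟨(R : A)⁻¹ * g, ?_⟩
        have key : ∀ w : A, g * w * g⁻¹ = ((R * a * R⁻¹ : ↥(P : Subgroup A)) : A) →
            (R : A)⁻¹ * g * w * ((R : A)⁻¹ * g)⁻¹ = (a : A) := fun w hw => by
          calc (R : A)⁻¹ * g * w * ((R : A)⁻¹ * g)⁻¹ = (R : A)⁻¹ * (g * w * g⁻¹) * R := by group
            _ = a := by rw [hw]; show (R : A)⁻¹ * ((R : A) * a * (R : A)⁻¹) * R = _; group
        exact hg.imp (key _) (key _))
    -- but then `v` is fused to `u v`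
    obtain ⟨g, hg⟩ := hvu 1 (one_mem _) x (Or.inl (mul_one x).symm)
    have hm0 : m ≠ 0 := fun h => hrne.2 (by rw [← hru, h, pow_zero, zpow_one])
    obtain ⟨k, rfl⟩ := Nat.exists_eq_add_one.2 (Nat.pos_of_ne_zero hm0)
    set R : ↥(P : Subgroup A) := r ^ ((2 : ℤ) ^ k) with hR
    have hux : D.u * x = R * x * R⁻¹ := by
      rw [hR, mul_assoc, ← zpow_neg, swap_zpow hxr, neg_neg, ← mul_assoc, ← zpow_add, ← hru]
      congr 2; ring
    have key : ∀ w : A, g * w * g⁻¹ = (x : A) →
        g⁻¹ * (R : A) * g * w * (g⁻¹ * (R : A) * g)⁻¹ = (D.u : A) * w := by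
      intro w hw
      calc g⁻¹ * (R : A) * g * w * (g⁻¹ * (R : A) * g)⁻¹
          = g⁻¹ * ((R : A) * (g * w * g⁻¹) * (R : A)⁻¹) * g := by group
        _ = g⁻¹ * ((R * x * R⁻¹ : ↥(P : Subgroup A)) : A) * g := by rw [hw]; rfl
        _ = g⁻¹ * ((D.u : A) * (g * w * g⁻¹)) * g := by rw [← hux, hw]; rfl
        _ = (g⁻¹ * (D.u : A)) * g * w := by group
        _ = (D.u : A) * w := by rw [Subgroup.mem_center_iff.1 huc g⁻¹, inv_mul_cancel_right]
    rcases hg with hg | hg
    · exact hsep _ (key _ hg)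
    · have := key _ hg
      refine hsep (g⁻¹ * (R : A) * g)⁻¹ ?_
      have e : (D.u : A) * ((D.u * D.v : ↥(P : Subgroup A)) : A) = D.v := by
        show (D.u : A) * ((D.u : A) * D.v) = D.v
        rw [← mul_assoc, show (D.u : A) * D.u = 1 from congrArg Subtype.val D.u2, one_mul]
      rw [e] at this
      conv_lhs => rw [← this]
      group
  · -- `x` moves `v`: transfer makes `v` conjugate to `u`
    have hxv' : x * D.v * x⁻¹ = D.u * D.v :=
      (D.hconj x).resolve_left fun h => hxv (mul_inv_eq_iff_eq_mul.1 h)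
    have hyv' : y * D.v * y⁻¹ = D.u * D.v := by
      have h := congrArg D.φ hxv'
      have huv : D.φ D.v = D.u * D.v := D.hφv
      rw [map_mul, map_mul, map_mul, map_inv, ← hy, huv, D.φu, ← mul_assoc D.u D.u, D.u2, one_mul,
        ← mul_assoc y, (hU y).eq, mul_assoc D.u y, mul_assoc D.u] at h
      calc y * D.v * y⁻¹ = D.u * (D.u * (y * D.v * y⁻¹)) := by rw [← mul_assoc, D.u2, one_mul]
        _ = D.u * D.v := by rw [h]
    have hrv : Commute r D.v := by
      refine mul_inv_eq_iff_eq_mul.1 ?_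
      rw [hr]
      calc x * y * D.v * (x * y)⁻¹ = x * (y * D.v * y⁻¹) * x⁻¹ := by group
        _ = (x * D.u * x⁻¹) * (x * D.v * x⁻¹) := by rw [hyv']; group
        _ = D.v := by rw [hxv', (hU x).eq, mul_inv_cancel_right, ← mul_assoc, D.u2, one_mul]
    have hzr : (x * D.v) * r * (x * D.v)⁻¹ = r⁻¹ := by
      calc (x * D.v) * r * (x * D.v)⁻¹ = x * (D.v * r * D.v⁻¹) * x⁻¹ := by group
        _ = r⁻¹ := by rw [hrv.symm.eq, mul_inv_cancel_right, hxr]
    have hzz' : (x * D.v) * (x * D.v) = D.u := by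
      calc (x * D.v) * (x * D.v) = (x * D.v * x⁻¹) * (x * x) * D.v := by group
        _ = D.u := by rw [hxv', hx, mul_one, mul_assoc, D.hv2, mul_one]
    have hzz : (x * D.v) * (x * D.v) ∈ zpowers r := hzz'.symm ▸ hur
    let M := dih r (x * D.v) hzr hzz
    have hrM : r ∈ M := ⟨1, Or.inl (zpow_one r).symm⟩
    have hinvM : ∀ a ∈ M, a * a = 1 → a = 1 ∨ a = D.u := by
      rintro a ⟨i, rfl | rfl⟩ h
      · exact hinv i h
      · exfalso
        apply D.u1
        rw [← h, ← hzz']
        calc x * D.v * (x * D.v) = r ^ i * r ^ (-i) * (x * D.v * (x * D.v)) := by group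
          _ = r ^ i * (r ^ (-i) * (x * D.v)) * (x * D.v) := by group
          _ = _ := by rw [← swap_zpow hzr]; group
    have hvM : D.v ∉ M := fun h => (hinvM _ h D.hv2).elim D.hv1 D.hvu
    have hnM : ∀ a ∈ M, D.v * a * D.v⁻¹ ∈ M := by
      rintro a ⟨i, rfl | rfl⟩
      · rw [(hrv.zpow_left i).symm.eq, mul_inv_cancel_right]; exact zpow_mem hrM i
      · have e : D.v * (r ^ i * (x * D.v)) * D.v⁻¹ = r ^ i * (D.v * x) := by
          rw [← mul_assoc, (hrv.zpow_left i).symm.eq]; group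
        have hxv2 : D.v * x = D.u * (x * D.v) := by
          calc D.v * x = (D.u * (D.u * D.v)) * x := by rw [← mul_assoc, D.u2, one_mul]
            _ = D.u * (x * D.v * x⁻¹ * x) := by rw [hxv']; group
            _ = _ := by group
        rw [e, hxv2]
        exact mul_mem (zpow_mem hrM i) (mul_mem ((zpowers_le.2 hrM) hur) ⟨0, Or.inr (by simp)⟩)
    obtain ⟨n, hn, hn2, hn1, hnu, -⟩ := fuse_v hperf P D hnf M hvM
      (hcover M hrM (Or.inr ⟨0, Or.inr (by simp)⟩) (Or.inr ⟨0, Or.inr (by simp)⟩) hnM)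
    exact (hinvM n hn hn2).elim hn1 hnu

end Data

end Cfsg.Agent.InvFour5
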