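import Cfsg.Agent.InvFour5.Beta2
import Cfsg.Agent.Lib.Thompson.Cores

/-!
Removing the odd core, and a transfer lemma for an element of order 4.
-/

set_option autoImplicit false

namespace Cfsg.Agent.InvFour5

open Subgroup
open scoped commutatorElement

/-- Transport of the data along an isomorphism. -/
def Data.map {S S' : Type*} [Group S] [Group S'] (D : Data S) (e : S ≃* S') : Data S' where
  φ := e.symm.trans (D.φ.trans e)
  hφ := fun s => by simp [D.hφ]
  c := e D.c
  hφc := by simp [D.hφc]
  hc4 := by rw [← map_mul, ← map_mul, D.hc4, map_one]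
  hc2 := fun h => D.hc2 (e.injective (by rw [map_mul, h, map_one]))
  hfix := fun s hs => by
    have h : D.φ (e.symm s) = e.symm s := by
      apply e.injective
      rw [e.apply_symm_apply]
      exact hs
    rcases D.hfix _ h with h | h | h | h <;> rw [e.symm_apply_eq] at h
    · exact Or.inl (by rw [h, map_one])
    · exact Or.inr (Or.inl (by rw [h, map_mul]))
    · exact Or.inr (Or.inr (Or.inl h))
    · exact Or.inr (Or.inr (Or.inr (by rw [h, map_mul, map_mul])))
  v := e D.v
  hv2 := by rw [← map_mul, D.hv2, map_one]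
  hv1 := fun h => D.hv1 (e.injective (by rw [h, map_one]))
  hvu := fun h => D.hvu (e.injective (by rw [h, map_mul]))
  hφv := by simp [D.hφv]
  hu := fun s => by
    obtain ⟨s, rfl⟩ := e.surjective s
    simp only [← map_mul, D.hu s]
  hconj := fun s => by
    obtain ⟨s, rfl⟩ := e.surjective s
    rcases D.hconj s with h | h
    · exact Or.inl (by rw [← map_inv, ← map_mul, ← map_mul, h])
    · exact Or.inr (by rw [← map_inv, ← map_mul, ← map_mul, h, map_mul, map_mul])
  hcv := by rw [← map_mul, D.hcv, map_mul]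

/-- There is no such configuration in a perfect group. -/
theorem false_of_data_perfect {A : Type*} [Group A] [Finite A] (hperf : Group.IsPerfect A)
    (P : Sylow 2 A) (D : Data ↥(P : Subgroup A)) : False := by
  classical
  haveI : Fact (Nat.Prime 2) := ⟨Nat.prime_two⟩
  let N := Cfsg.pPrimeCore 2 A
  let π := QuotientGroup.mk' N
  let P' : Sylow 2 (A ⧸ N) := P.mapSurjective (QuotientGroup.mk'_surjective _)
  let f : ↥(P : Subgroup A) →* ↥(P' : Subgroup (A ⧸ N)) :=
    (π.comp (P : Subgroup A).subtype).codRestrict _ fun s => ⟨(s : A), s.2, rfl⟩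
  have hf : Function.Bijective f := by
    constructor
    · rw [injective_iff_map_eq_one]
      intro s hs
      have hsN : (s : A) ∈ N := (QuotientGroup.eq_one_iff _).1 (congrArg Subtype.val hs)
      have h := Thompson.inf_eq_bot_of_isPGroup_of_coprime P.isPGroup'
        (Thompson.card_pPrimeCore_coprime (p := 2) (G := A))
      exact Subtype.ext (Subgroup.mem_bot.1 (h ▸ ⟨s.2, hsN⟩ : (s : A) ∈ (⊥ : Subgroup A)))
    · rintro ⟨b, a, ha, rfl⟩
      exact ⟨⟨a, ha⟩, rfl⟩
  have hperf' : Group.IsPerfect (A ⧸ N) := by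
    refine ⟨?_⟩
    rw [← Subgroup.map_top_of_surjective π (QuotientGroup.mk'_surjective N), ← hperf.commutator_eq_top,
      map_commutator_eq, _root_.commutator_def, MonoidHom.range_eq_top.2 (QuotientGroup.mk'_surjective N)]
  refine Data.false_of_data hperf' (fun M hM hodd => ?_) P' (D.map (MulEquiv.ofBijective f hf))
  have h := Thompson.le_pPrimeCore (p := 2) hM hodd.coprime_two_right
  rw [Thompson.pPrimeCore_quotient_pPrimeCore] at h
  exact le_bot_iff.1 h

/-- In a perfect group, an element `c` of order dividing 4 lying outside a subgroup of index 2 of a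
Sylow subgroup which holds all conjugates of `c * c` there has a conjugate inside it. -/
theorem exists_conj_mem_of_sq {A : Type*} [Group A] [Finite A] (hperf : Group.IsPerfect A)
    (P : Sylow 2 A) (N : Subgroup ↥(P : Subgroup A)) (c : ↥(P : Subgroup A))
    (hc4 : (c : A) ^ 4 = 1) (hcN : c ∉ N) (hN : ∀ b, b ∈ N ∨ b * c ∈ N)
    (hsq : ∀ g : A, ∀ h : g * (c : A) ^ 2 * g⁻¹ ∈ P, (⟨_, h⟩ : ↥(P : Subgroup A)) ∈ N) :
    ∃ g : A, ∃ n ∈ N, g * (c : A) * g⁻¹ = (n : A) := by
  classical
  haveI : Fact (Nat.Prime 2) := ⟨Nat.prime_two⟩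
  by_contra hh
  push Not at hh
  have hidx : N.index = 2 := by
    rw [Subgroup.index_eq_two_iff]
    refine ⟨c, fun b => ?_⟩
    rcases hN b with h | h
    · exact Or.inr ⟨h, fun h' => hcN (by simpa using mul_mem (inv_mem h) h')⟩
    · exact Or.inl ⟨h, fun h' => hcN (by simpa using mul_mem (inv_mem h') h)⟩
  let φ : ↥(P : Subgroup A) →* ℤˣ := MonoidHom.mk' (fun s => if s ∈ N then 1 else -1) fun a b => by
    have h := Subgroup.mul_mem_iff_of_index_two hidx (a := a) (b := b)
    by_cases ha : a ∈ N <;> by_cases hb : b ∈ N <;> simp [h, ha, hb]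
  have htriv : MonoidHom.transfer φ (c : A) = 1 := by
    have : _root_.commutator A ≤ (MonoidHom.transfer φ).ker := by
      rw [_root_.commutator_def, Subgroup.commutator_le]
      intro a _ b _
      rw [MonoidHom.mem_ker, map_commutatorElement, commutatorElement_eq_one_iff_mul_comm, mul_comm]
    rw [hperf.commutator_eq_top] at this
    exact MonoidHom.mem_ker.1 (this (mem_top _))
  haveI : Fintype (Quotient (MulAction.orbitRel (zpowers (c : A)) (A ⧸ (P : Subgroup A)))) :=
    Fintype.ofFinite _
  haveI := Fintype.ofFinite (A ⧸ (P : Subgroup A))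
  rw [MonoidHom.transfer_eq_prod_quotient_orbitRel_zpowers_quot] at htriv
  set per : Quotient (MulAction.orbitRel (zpowers (c : A)) (A ⧸ (P : Subgroup A))) → ℕ :=
    fun q => Function.minimalPeriod ((c : A) • ·) q.out with hper
  have hterm : ∀ q, φ ⟨q.out.out⁻¹ * (c : A) ^ per q * q.out.out,
      QuotientGroup.out_conj_pow_minimalPeriod_mem (P : Subgroup A) (c : A) q.out⟩ = (-1) ^ per q := by
    intro q
    set a : A := q.out.out with ha
    have hmem := QuotientGroup.out_conj_pow_minimalPeriod_mem (P : Subgroup A) (c : A) q.out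
    obtain ⟨k, hk, hkq⟩ := (Nat.dvd_prime_pow Nat.prime_two).1
      (show per q ∣ 2 ^ 2 from Function.IsPeriodicPt.minimalPeriod_dvd (by
        show ((c : A) • ·)^[2 ^ 2] q.out = q.out
        rw [smul_iterate]; show (c : A) ^ (2 ^ 2) • q.out = q.out
        rw [show (c : A) ^ (2 ^ 2) = 1 from hc4, one_smul]))
    simp only [φ, MonoidHom.mk'_apply]
    interval_cases k
    · rw [if_neg ?_, hkq, pow_zero, pow_one]
      intro h
      refine hh a⁻¹ _ h ?_
      show a⁻¹ * (c : A) * a⁻¹⁻¹ = a⁻¹ * (c : A) ^ per q * a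
      rw [hkq, pow_zero, pow_one, inv_inv]
    · rw [if_pos ?_, hkq, pow_one, neg_one_sq]
      have e : a⁻¹ * (c : A) ^ per q * a = a⁻¹ * (c : A) ^ 2 * a⁻¹⁻¹ := by rw [hkq, pow_one, inv_inv]
      have := hsq a⁻¹ (e ▸ hmem)
      convert this using 1
      exact Subtype.ext e
    · rw [if_pos ?_, hkq, show ((-1 : ℤˣ) ^ (2 ^ 2)) = 1 by rfl]
      have e : a⁻¹ * (c : A) ^ per q * a = 1 := by
        rw [hkq, show (c : A) ^ (2 ^ 2) = 1 from hc4, mul_one, inv_mul_cancel]
      convert N.one_mem using 1
      exact Subtype.ext e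
  rw [Finset.prod_congr rfl fun q _ => hterm q, Finset.prod_pow_eq_pow_sum] at htriv
  have hsum : ∑ q, per q = Fintype.card (A ⧸ (P : Subgroup A)) := by
    rw [Fintype.card_congr (Subgroup.quotientEquivSigmaZMod (P : Subgroup A) (c : A)),
      Fintype.card_sigma]
    refine Finset.sum_congr rfl fun q _ => ?_
    rw [ZMod.card]
  rw [hsum, ← Nat.card_eq_fintype_card, ← Subgroup.index_eq_card] at htriv
  have hodd : Odd (P : Subgroup A).index :=
    Nat.not_even_iff_odd.1 fun h => P.not_dvd_index (even_iff_two_dvd.1 h)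
  rw [hodd.neg_one_pow] at htriv
  exact absurd htriv (by decide)

end Cfsg.Agent.InvFour5
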