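import Cfsg.Agent.InvFour5.Descend

/-!
An involution `t` acting on a perfect group `A` such that `C_A(t)` has a cyclic Sylow 2-subgroup
`⟨c⟩` of order 4 forces `A` to have 2-rank at most 1.
-/

set_option autoImplicit false

namespace Cfsg.Agent.InvFour5

open Subgroup
open scoped Pointwise

variable {G : Type*} [Group G]

/-- The elements fixing `u` and permuting `{s, u * s}`. -/
def pairStab (u s : G) (hu : u * u = 1) : Subgroup G where
  carrier := {τ | τ * u * τ⁻¹ = u ∧ (τ * s * τ⁻¹ = s ∨ τ * s * τ⁻¹ = u * s)}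
  one_mem' := ⟨by group, Or.inl (by group)⟩
  mul_mem' := by
    rintro a b ⟨hau, has⟩ ⟨hbu, hbs⟩
    have e : ∀ x, a * b * x * (a * b)⁻¹ = a * (b * x * b⁻¹) * a⁻¹ := fun x => by group
    refine ⟨by rw [e, hbu, hau], ?_⟩
    rcases hbs with hb | hb
    · rw [e, hb]; exact has
    · rw [e, hb, show a * (u * s) * a⁻¹ = (a * u * a⁻¹) * (a * s * a⁻¹) by group, hau]
      rcases has with ha | ha <;> rw [ha]
      · exact Or.inr rfl
      · left; rw [← mul_assoc, hu, one_mul]
  inv_mem' := by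
    rintro a ⟨hau, has⟩
    have hu' : a⁻¹ * u * a⁻¹⁻¹ = u := by nth_rewrite 1 [← hau]; group
    refine ⟨hu', ?_⟩
    rcases has with ha | ha
    · left; nth_rewrite 1 [← ha]; group
    · right
      calc a⁻¹ * s * a⁻¹⁻¹ = a⁻¹ * (u * (u * s)) * a⁻¹⁻¹ := by rw [← mul_assoc u, hu, one_mul]
        _ = (a⁻¹ * u * a⁻¹⁻¹) * (a⁻¹ * (a * s * a⁻¹) * a⁻¹⁻¹) := by rw [ha]; group
        _ = u * s := by rw [hu']; group

/-- The common setting: a perfect `A`, the involution `t`, a `t`-invariant Sylow subgroup `S` of `A`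
inside the Sylow subgroup `TT` of `A ⊔ ⟨t⟩`. -/
structure Setting [Finite G] where
  A : Subgroup G
  hperf : Group.IsPerfect ↥A
  t : G
  ht2 : t * t = 1
  htA : t ∈ normalizer (A : Set G)
  c : G
  hC4 : ∀ R : Subgroup G, R ≤ A → (∀ r ∈ R, r * t = t * r) → IsPGroup 2 R → Nat.card R ≤ 4
  S : Subgroup G
  TT : Subgroup G
  hTT2 : IsPGroup 2 TT
  hTTmax : ∀ R : Subgroup G, R ≤ A ⊔ zpowers t → IsPGroup 2 R → Nat.card R ≤ Nat.card TT
  hTTle : TT ≤ A ⊔ zpowers t
  hS : S = TT ⊓ A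
  htT : t ∈ TT
  hcS : c ∈ S
  htc : t * c = c * t
  hu1 : c * c ≠ 1
  hu2 : (c * c) * (c * c) = 1
  hfix : ∀ s ∈ S, t * s * t⁻¹ = s → s = 1 ∨ s = c * c ∨ s = c ∨ s = c * (c * c)
  huc : ∀ τ ∈ TT, τ * (c * c) = c * c * τ

namespace Setting

variable [Finite G] (X : Setting (G := G))

theorem hSA : X.S ≤ X.A := X.hS ▸ inf_le_right
theorem hST : X.S ≤ X.TT := X.hS ▸ inf_le_left
theorem hS2 : IsPGroup 2 X.S := X.hTT2.to_le X.hST
theorem hti : X.t⁻¹ = X.t := inv_eq_of_mul_eq_one_right X.ht2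

theorem hUA : zpowers X.t ≤ normalizer (X.A : Set G) := zpowers_le.2 X.htA

theorem hSn {τ s : G} (hτ : τ ∈ X.TT) (hs : s ∈ X.S) : τ * s * τ⁻¹ ∈ X.S := by
  rw [X.hS] at hs ⊢
  have hn : X.A ⊔ zpowers X.t ≤ normalizer (X.A : Set G) := sup_le Subgroup.le_normalizer X.hUA
  exact Subgroup.mem_inf.2 ⟨mul_mem (mul_mem hτ hs.1) (inv_mem hτ),
    (mem_normalizer_iff.1 (hn (X.hTTle hτ)) s).1 hs.2⟩

theorem decomp {τ : G} (hτ : τ ∈ X.TT) : τ ∈ X.S ∨ τ * X.t ∈ X.S := by
  have h := X.hTTle hτ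
  rw [sup_comm, ← SetLike.mem_coe, Subgroup.coe_mul_of_left_le_normalizer_right _ _ X.hUA] at h
  obtain ⟨p, ⟨k, rfl⟩, a, ha, rfl⟩ := h
  rcases Int.even_or_odd' k with ⟨l, rfl | rfl⟩
  · left
    rw [X.hS]
    refine ⟨hτ, ?_⟩
    show X.t ^ (2 * l) * a ∈ X.A
    rw [zpow_mul, zpow_two, X.ht2, one_zpow, one_mul]
    exact ha
  · right
    rw [X.hS]
    refine ⟨mul_mem hτ X.htT, ?_⟩
    show X.t ^ (2 * l + 1) * a * X.t ∈ X.A
    rw [zpow_add, zpow_mul, zpow_two, X.ht2, one_zpow, one_mul, zpow_one]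
    have := (mem_normalizer_iff.1 X.htA a).1 ha
    rwa [X.hti] at this

theorem conjA {Q : Subgroup G} (hQ : Q ≤ X.A ⊔ zpowers X.t) (hQ2 : IsPGroup 2 Q) :
    ∃ a ∈ X.A, ∀ q ∈ Q, a * q * a⁻¹ ∈ X.TT := by
  obtain ⟨x, hx, hxq⟩ := Perm.FourAct.conj_into X.hTTle X.hTT2 X.hTTmax hQ hQ2
  have hx' : x ∈ (zpowers X.t : Set G) * (X.A : Set G) := by
    rw [← Subgroup.coe_mul_of_left_le_normalizer_right _ _ X.hUA, sup_comm]
    exact hx
  obtain ⟨p, hp, a, ha, rfl⟩ := hx'
  refine ⟨a, ha, fun q hq => ?_⟩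
  have hpT : p ∈ X.TT := (zpowers_le.2 X.htT) hp
  have := mul_mem (mul_mem (inv_mem hpT) (hxq q hq)) hpT
  have heq : p⁻¹ * (p * a * q * (p * a)⁻¹) * p = a * q * a⁻¹ := by group
  rwa [heq] at this

theorem card_le {R : Subgroup G} (hR : R ≤ X.A) (hR2 : IsPGroup 2 R) :
    Nat.card R ≤ Nat.card X.S := by
  obtain ⟨a, ha, hq⟩ := X.conjA (hR.trans le_sup_left) hR2
  refine Nat.card_le_card_of_injective (fun r : R => (⟨a * r * a⁻¹, ?_⟩ : X.S)) ?_
  · rw [X.hS]
    exact Subgroup.mem_inf.2 ⟨hq r r.2, mul_mem (mul_mem ha (hR r.2)) (inv_mem ha)⟩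
  · intro r r' h
    simpa using congrArg Subtype.val h

theorem exists_sylow : ∃ P : Sylow 2 X.A, (P : Subgroup X.A) = X.S.subgroupOf X.A := by
  haveI : Fact (Nat.Prime 2) := ⟨Nat.prime_two⟩
  obtain ⟨P, hP⟩ := (X.hS2.of_equiv (Subgroup.subgroupOfEquivOfLe X.hSA).symm).exists_le_sylow
  refine ⟨P, (Subgroup.eq_of_le_of_card_ge hP ?_).symm⟩
  have := X.card_le (Subgroup.map_subtype_le (P : Subgroup X.A)) (P.isPGroup'.map _)
  rwa [Subgroup.card_map_of_injective X.A.subtype_injective,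
    ← Nat.card_congr (Subgroup.subgroupOfEquivOfLe X.hSA).toEquiv] at this

/-- A second normal four-group is impossible. -/
theorem no_four {v : G} (hvS : v ∈ X.S) (hv2 : v * v = 1) (hv1 : v ≠ 1) (hvu : v ≠ X.c * X.c)
    (hconj : ∀ τ ∈ X.TT, τ * v * τ⁻¹ = v ∨ τ * v * τ⁻¹ = X.c * X.c * v) : False := by
  classical
  haveI : Fact (Nat.Prime 2) := ⟨Nat.prime_two⟩
  set u := X.c * X.c with hu
  have hcT : X.c ∈ X.TT := X.hST X.hcS
  have huv : u * v ≠ v := fun h => X.hu1 (mul_eq_right.1 h)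
  have huS : u ∈ X.S := mul_mem X.hcS X.hcS
  have hctv : X.t * v * X.t⁻¹ = u * v := by
    refine (hconj _ X.htT).resolve_left fun h => ?_
    rcases X.hfix v hvS h with h' | h' | h' | h'
    · exact hv1 h'
    · exact hvu h'
    · rw [h'] at hv2; exact X.hu1 hv2
    · rw [h'] at hv2
      apply X.hu1
      calc X.c * X.c = (X.c * X.c) * ((X.c * X.c) * (X.c * X.c)) := by rw [X.hu2, mul_one]
        _ = X.c * (X.c * X.c) * (X.c * (X.c * X.c)) := by group
        _ = 1 := hv2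
  obtain ⟨P, hP⟩ := X.exists_sylow
  have hmemP : ∀ a : ↥X.A, a ∈ (P : Subgroup X.A) ↔ (a : G) ∈ X.S := fun a => by
    rw [hP, Subgroup.mem_subgroupOf]
  rcases hconj X.c hcT with hcv | hcv
  · -- `c` centralises the four-group
    let e : ↥(P : Subgroup X.A) ≃* ↥X.S := (MulEquiv.subgroupCongr hP).trans
      (Subgroup.subgroupOfEquivOfLe X.hSA)
    let φ : ↥X.S ≃* ↥X.S :=
      { toFun := fun s => ⟨X.t * s * X.t⁻¹, X.hSn X.htT s.2⟩
        invFun := fun s => ⟨X.t * s * X.t⁻¹, X.hSn X.htT s.2⟩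
        left_inv := fun s => Subtype.ext (by
          show X.t * (X.t * (s : G) * X.t⁻¹) * X.t⁻¹ = s
          rw [X.hti]
          calc X.t * (X.t * (s : G) * X.t) * X.t = (X.t * X.t) * s * (X.t * X.t) := by group
            _ = s := by rw [X.ht2, one_mul, mul_one])
        right_inv := fun s => Subtype.ext (by
          show X.t * (X.t * (s : G) * X.t⁻¹) * X.t⁻¹ = s
          rw [X.hti]
          calc X.t * (X.t * (s : G) * X.t) * X.t = (X.t * X.t) * s * (X.t * X.t) := by group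
            _ = s := by rw [X.ht2, one_mul, mul_one])
        map_mul' := fun a b => Subtype.ext (by
          show X.t * ((a : G) * b) * X.t⁻¹ = X.t * a * X.t⁻¹ * (X.t * b * X.t⁻¹)
          group) }
    let D : Data ↥X.S :=
      { φ := φ
        hφ := φ.left_inv
        c := ⟨X.c, X.hcS⟩
        hφc := Subtype.ext (show X.t * X.c * X.t⁻¹ = X.c by rw [X.htc, mul_inv_cancel_right])
        hc4 := Subtype.ext X.hu2
        hc2 := fun h => X.hu1 (congrArg Subtype.val h)
        hfix := fun s hs => by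
          rcases X.hfix s s.2 (congrArg Subtype.val hs) with h | h | h | h
          · exact Or.inl (Subtype.ext h)
          · exact Or.inr (Or.inl (Subtype.ext h))
          · exact Or.inr (Or.inr (Or.inl (Subtype.ext h)))
          · exact Or.inr (Or.inr (Or.inr (Subtype.ext h)))
        v := ⟨v, hvS⟩
        hv2 := Subtype.ext hv2
        hv1 := fun h => hv1 (congrArg Subtype.val h)
        hvu := fun h => hvu (congrArg Subtype.val h)
        hφv := Subtype.ext hctv
        hu := fun s => Subtype.ext (X.huc s (X.hST s.2))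
        hconj := fun s => by
          rcases hconj s (X.hST s.2) with h | h
          · exact Or.inl (Subtype.ext h)
          · exact Or.inr (Subtype.ext h)
        hcv := Subtype.ext (mul_inv_eq_iff_eq_mul.1 hcv) }
    exact false_of_data_perfect X.hperf P (D.map e.symm)
  -- `c` moves `v`: the Sylow subgroup is dihedral of order 8
  have hcu : ∀ τ ∈ X.TT, τ * u * τ⁻¹ = u := fun τ hτ => by
    rw [X.huc τ hτ, mul_inv_cancel_right]
  let E : Subgroup G := Perm.FourAct.pairGroup u v X.hu2 hv2 (X.huc v (X.hST hvS)).symm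
  have hES : E ≤ X.S := fun a ha => by
    rcases Perm.FourAct.mem_pairGroup.1 ha with rfl | rfl | rfl | rfl
    exacts [one_mem _, huS, hvS, mul_mem huS hvS]
  have hEv : ∀ a ∈ E, a * v = v * a := fun a ha => by
    have h := X.huc v (X.hST hvS)
    rcases Perm.FourAct.mem_pairGroup.1 ha with rfl | rfl | rfl | rfl
    · simp
    · exact h.symm
    · rfl
    · rw [mul_assoc, hv2, mul_one, ← mul_assoc, h, mul_assoc, hv2, mul_one]
  -- elements centralising `v` lie in the four-group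
  have hcent : ∀ a ∈ X.S, a * v = v * a → a ∈ E := by
    let C : Subgroup G := X.S ⊓ centralizer {v}
    have hmem : ∀ a, a ∈ C ↔ a ∈ X.S ∧ a * v = v * a := fun a => by
      refine ⟨fun h => ⟨h.1, (h.2 v rfl).symm⟩, fun h => ⟨h.1, fun b hb => ?_⟩⟩
      rw [Set.mem_singleton_iff] at hb; subst hb; exact h.2.symm
    intro a haS hav
    by_contra haE
    have hEC : E ≤ C := fun b hb => (hmem b).2 ⟨hES hb, hEv b hb⟩
    have hτC : ∀ b ∈ C, X.t * b * X.t⁻¹ ∈ C := fun b hb => by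
      obtain ⟨hbS, hbv⟩ := (hmem b).1 hb
      refine (hmem _).2 ⟨X.hSn X.htT hbS, ?_⟩
      have huv' : b * (u * v) = u * v * b := by
        calc b * (u * v) = b * u * v := (mul_assoc _ _ _).symm
          _ = u * b * v := by rw [show b * u = u * b from X.huc b (X.hST hbS)]
          _ = u * (b * v) := mul_assoc _ _ _
          _ = u * v * b := (congrArg (u * ·) hbv).trans (mul_assoc _ _ _).symm
      have hv' : X.t * (u * v) * X.t⁻¹ = v := by
        calc X.t * (u * v) * X.t⁻¹ = (X.t * u * X.t⁻¹) * (X.t * v * X.t⁻¹) := by group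
          _ = v := by rw [hctv, hcu _ X.htT, ← mul_assoc, X.hu2, one_mul]
      calc X.t * b * X.t⁻¹ * v = X.t * b * X.t⁻¹ * (X.t * (u * v) * X.t⁻¹) := by rw [hv']
        _ = X.t * (b * (u * v)) * X.t⁻¹ := by group
        _ = X.t * (u * v) * X.t⁻¹ * (X.t * b * X.t⁻¹) := by rw [huv']; group
        _ = v * (X.t * b * X.t⁻¹) := by rw [hv']
    have hEt : ∀ b ∈ E, X.t * b * X.t⁻¹ ∈ E := by
      intro b hb
      rcases Perm.FourAct.mem_pairGroup.1 hb with rfl | rfl | rfl | rfl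
      · simp
      · rw [hcu _ X.htT]; exact hb
      · rw [hctv]; exact Perm.FourAct.mem_pairGroup.2 (Or.inr (Or.inr (Or.inr rfl)))
      · have : X.t * (u * v) * X.t⁻¹ = v := by
          calc X.t * (u * v) * X.t⁻¹ = (X.t * u * X.t⁻¹) * (X.t * v * X.t⁻¹) := by group
            _ = v := by rw [hctv, hcu _ X.htT, ← mul_assoc, X.hu2, one_mul]
        rw [this]; exact Perm.FourAct.mem_pairGroup.2 (Or.inr (Or.inr (Or.inl rfl)))
    let E' := E.subgroupOf C
    let f : ↥C ⧸ E' → ↥C ⧸ E' := Quotient.map' (fun n => ⟨X.t * n * X.t⁻¹, hτC n n.2⟩) fun p q hpq => by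
      rw [QuotientGroup.leftRel_apply] at hpq ⊢
      have := hEt _ (show (p : G)⁻¹ * q ∈ E from hpq)
      show (X.t * (p : G) * X.t⁻¹)⁻¹ * (X.t * q * X.t⁻¹) ∈ E
      convert this using 1
      group
    have hf : Function.Involutive f := fun q => by
      induction q using Quotient.inductionOn' with
      | h n => exact congrArg Quotient.mk'' (Subtype.ext (by
          show X.t * (X.t * (n : G) * X.t⁻¹) * X.t⁻¹ = n
          rw [X.hti]
          calc X.t * (X.t * (n : G) * X.t) * X.t = (X.t * X.t) * n * (X.t * X.t) := by group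
            _ = n := by rw [X.ht2, one_mul, mul_one]))
    have hp2 : 2 ∣ Nat.card (↥C ⧸ E') := by
      obtain ⟨k, hk⟩ := (X.hS2.to_le (inf_le_left : C ≤ X.S)).index E'
      rw [← Subgroup.index_eq_card, hk]
      have hk0 : k ≠ 0 := by
        rintro rfl
        rw [pow_zero, Subgroup.index_eq_one] at hk
        exact haE (hk ▸ mem_top (⟨a, (hmem a).2 ⟨haS, hav⟩⟩ : ↥C) : (⟨a, (hmem a).2 ⟨haS, hav⟩⟩ : ↥C) ∈ E')
      exact dvd_pow_self 2 hk0
    haveI := Fintype.ofFinite (↥C ⧸ E')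
    have hσ : (hf.toPerm f) ^ 2 ^ 1 = 1 := Equiv.ext fun q => by simp [sq, hf q]
    obtain ⟨q, hq, hq1⟩ := Equiv.Perm.exists_fixed_point_of_prime'
      (σ := hf.toPerm f) (a := ((1 : ↥C) : ↥C ⧸ E')) (by rwa [← Nat.card_eq_fintype_card]) hσ
      (congrArg Quotient.mk'' (Subtype.ext (by simp)))
    obtain ⟨⟨n, hn⟩, rfl⟩ := QuotientGroup.mk_surjective q
    have hnE : n ∉ E := fun h => hq1 (QuotientGroup.eq.2 (show (⟨n, hn⟩ : ↥C)⁻¹ * 1 ∈ E' by
      rw [mem_subgroupOf]; simpa using h))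
    have hqe : (⟨X.t * n * X.t⁻¹, hτC n hn⟩ : ↥C)⁻¹ * ⟨n, hn⟩ ∈ E' := QuotientGroup.eq.1 hq
    have heE : (X.t * n * X.t⁻¹)⁻¹ * n ∈ E := hqe
    obtain ⟨hnS, hnv⟩ := (hmem n).1 hn
    have hfixed : ∀ b ∈ X.S, b * v = v * b → X.t * b * X.t⁻¹ = b → b ∈ E := fun b hbS hbv hb => by
      rcases X.hfix b hbS hb with rfl | rfl | rfl | rfl
      · exact one_mem E
      · exact Perm.FourAct.mem_pairGroup.2 (Or.inr (Or.inl rfl))
      · exact absurd (hcv.symm.trans (by rw [hbv, mul_inv_cancel_right])) huv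
      · exfalso
        refine huv (hcv.symm.trans ?_)
        have h1 : X.c * (X.c * X.c) * v * (X.c * (X.c * X.c))⁻¹ = v := by
          rw [hbv, mul_inv_cancel_right]
        have h0 : u * v * u⁻¹ = v := by
          rw [← show v * u = u * v from X.huc v (X.hST hvS), mul_inv_cancel_right]
        calc X.c * v * X.c⁻¹ = X.c * (u * v * u⁻¹) * X.c⁻¹ := by rw [h0]
          _ = X.c * u * v * (X.c * u)⁻¹ := by group
          _ = v := h1
    set e := (X.t * n * X.t⁻¹)⁻¹ * n with he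
    have hte : X.t * e * X.t⁻¹ = e⁻¹ := by
      rw [he, X.hti]
      calc X.t * ((X.t * n * X.t)⁻¹ * n) * X.t = X.t * X.t⁻¹ * n⁻¹ * X.t⁻¹ * n * X.t := by group
        _ = n⁻¹ * (X.t * n * X.t) := by rw [X.hti, X.ht2]; group
        _ = _ := by group
    have hev : X.t * n * X.t⁻¹ = n * e⁻¹ := by rw [he]; group
    rcases Perm.FourAct.mem_pairGroup.1 heE with h | h | h | h <;> rw [h] at hte hev
    · exact hnE (hfixed n hnS hnv (by rw [hev, inv_one, mul_one]))
    · have hn' : n * v ∈ E := hfixed _ (mul_mem hnS hvS) (by rw [mul_assoc, hv2, mul_one, ← mul_assoc, ← hnv, mul_assoc, hv2, mul_one]) (by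
        calc X.t * (n * v) * X.t⁻¹ = (X.t * n * X.t⁻¹) * (X.t * v * X.t⁻¹) := by group
          _ = n * v := by rw [hev, hctv, inv_eq_of_mul_eq_one_right X.hu2, mul_assoc, ← mul_assoc u,
            X.hu2, one_mul])
      refine hnE ?_
      have hvE : v ∈ E := Perm.FourAct.mem_pairGroup.2 (Or.inr (Or.inr (Or.inl rfl)))
      simpa [mul_assoc, hv2] using mul_mem hn' hvE
    · rw [hctv, inv_eq_of_mul_eq_one_right hv2] at hte
      exact huv hte
    · have h1 : X.t * (u * v) * X.t⁻¹ = v := by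
        calc X.t * (u * v) * X.t⁻¹ = (X.t * u * X.t⁻¹) * (X.t * v * X.t⁻¹) := by group
          _ = v := by rw [hctv, hcu _ X.htT, ← mul_assoc, X.hu2, one_mul]
      rw [h1] at hte
      have huv2 : (u * v) * (u * v) = 1 := by
        rw [mul_assoc, ← mul_assoc v u v, X.huc v (X.hST hvS), mul_assoc u v v, hv2, mul_one, X.hu2]
      rw [inv_eq_of_mul_eq_one_right huv2] at hte
      exact huv hte.symm
  -- the whole Sylow subgroup
  have hdec : ∀ a ∈ X.S, ∃ e ∈ E, a = e ∨ a = e * X.c := by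
    intro a ha
    rcases hconj a (X.hST ha) with h | h
    · exact ⟨a, hcent a ha (mul_inv_eq_iff_eq_mul.1 h), Or.inl rfl⟩
    · refine ⟨a * X.c⁻¹, hcent _ (mul_mem ha (inv_mem X.hcS)) ?_, Or.inr (by group)⟩
      have h1 : X.c⁻¹ * v * X.c = u * v := by
        calc X.c⁻¹ * v * X.c = X.c⁻¹ * (u * (u * v)) * X.c := by rw [← mul_assoc u, X.hu2, one_mul]
          _ = (X.c⁻¹ * u * X.c) * (X.c⁻¹ * (X.c * v * X.c⁻¹) * X.c) := by rw [hcv]; group
          _ = u * v := by rw [hu]; group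
      refine mul_inv_eq_iff_eq_mul.1 ?_
      calc a * X.c⁻¹ * v * (a * X.c⁻¹)⁻¹ = a * (X.c⁻¹ * v * X.c) * a⁻¹ := by group
        _ = (a * u * a⁻¹) * (a * v * a⁻¹) := by rw [h1]; group
        _ = v := by rw [hcu a (X.hST ha), h, ← mul_assoc, X.hu2, one_mul]
  -- squares in `TT`
  have hEimg : ∀ τ ∈ X.TT, ∀ e ∈ E, τ * e * τ⁻¹ = e ∨ τ * e * τ⁻¹ = u * e := by
    intro τ hτ e he
    have e1 : τ * (u * v) * τ⁻¹ = (τ * u * τ⁻¹) * (τ * v * τ⁻¹) := by group
    rcases Perm.FourAct.mem_pairGroup.1 he with rfl | rfl | rfl | rfl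
    · left; group
    · exact Or.inl (hcu τ hτ)
    · exact hconj τ hτ
    · rw [e1, hcu τ hτ]
      rcases hconj τ hτ with h | h <;> rw [h]
      · exact Or.inl rfl
      · exact Or.inr rfl
  have hEsq : ∀ e ∈ E, e * e = 1 := fun e he => Perm.FourAct.pairGroup_sq he
  have hEu : ∀ e ∈ E, u * e = e * u := fun e he => (X.huc e (X.hST (hES he))).symm
  have hSsq : ∀ a ∈ X.S, a * a = 1 ∨ a * a = u := by
    intro a ha
    obtain ⟨e, he, rfl | rfl⟩ := hdec a ha
    · exact Or.inl (hEsq _ he)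
    · have e1 : e * X.c * (e * X.c) = e * (X.c * e * X.c⁻¹) * u := by rw [hu]; group
      rcases hEimg X.c hcT e he with h | h <;> rw [e1, h]
      · right; rw [hEsq e he, one_mul]
      · left; rw [hEu e he, ← mul_assoc e e u, hEsq e he, one_mul, X.hu2]
  have htimg : ∀ a ∈ X.S, X.t * a * X.t⁻¹ = a ∨ X.t * a * X.t⁻¹ = u * a := by
    intro a ha
    obtain ⟨e, he, rfl | rfl⟩ := hdec a ha
    · exact hEimg _ X.htT _ he
    · have e1 : X.t * (e * X.c) * X.t⁻¹ = (X.t * e * X.t⁻¹) * X.c := by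
        calc X.t * (e * X.c) * X.t⁻¹ = (X.t * e * X.t⁻¹) * (X.t * X.c * X.t⁻¹) := by group
          _ = _ := by rw [X.htc, mul_inv_cancel_right]
      rcases hEimg _ X.htT e he with h | h <;> rw [e1, h]
      · exact Or.inl rfl
      · exact Or.inr (mul_assoc u e X.c)
  have hTsq : ∀ τ ∈ X.TT, τ * τ = 1 ∨ τ * τ = u := by
    intro τ hτ
    rcases X.decomp hτ with h | h
    · exact hSsq τ h
    · have e1 : τ * τ = (τ * X.t) * (X.t * (τ * X.t) * X.t⁻¹) := by
        rw [X.hti]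
        calc τ * τ = τ * 1 * τ * 1 := by group
          _ = _ := by rw [← X.ht2]; group
      rcases htimg _ h with h1 | h1 <;> rw [e1, h1]
      · exact hSsq _ h
      · have hcu' := X.huc _ (X.hST h)
        rcases hSsq _ h with h2 | h2 <;> rw [← mul_assoc, hcu', mul_assoc, h2]
        · exact Or.inr (mul_one u)
        · exact Or.inl X.hu2
  -- `v` is fused to `u`
  let cA : ↥(P : Subgroup X.A) := ⟨⟨X.c, X.hSA X.hcS⟩, (hmemP _).2 X.hcS⟩
  let vA : ↥(P : Subgroup X.A) := ⟨⟨v, X.hSA hvS⟩, (hmemP _).2 hvS⟩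
  have hpc : ∀ k : ℤ, X.c ^ k = 1 ∨ X.c ^ k = u ∨ X.c ^ k = X.c ∨ X.c ^ k = X.c * u := by
    intro k
    have hfix' : X.t * X.c ^ k * X.t⁻¹ = X.c ^ k := by
      rw [← conj_zpow, X.htc, mul_inv_cancel_right]
    exact X.hfix _ (zpow_mem X.hcS k) hfix'
  have hvc : vA ∉ zpowers cA := by
    rintro ⟨k, hk⟩
    have h1 : X.c ^ k = v := by
      have := congrArg (fun a : ↥(P : Subgroup X.A) => ((a : X.A) : G)) hk
      simpa [cA, vA] using this
    rcases hpc k with h | h | h | h <;> rw [h] at h1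
    · exact hv1 h1.symm
    · exact hvu h1.symm
    · rw [← h1] at hv2; exact X.hu1 hv2
    · rw [← h1] at hv2
      apply X.hu1
      calc X.c * X.c = (X.c * X.c) * ((X.c * X.c) * (X.c * X.c)) := by rw [X.hu2, mul_one]
        _ = X.c * (X.c * X.c) * (X.c * (X.c * X.c)) := by group
        _ = 1 := hv2
  have hcov : ∀ b, b ∈ zpowers cA ∨ b * vA ∈ zpowers cA := by
    intro b
    have huA : cA * cA ∈ zpowers cA := mul_mem (mem_zpowers _) (mem_zpowers _)
    obtain ⟨e, he, hbe | hbe⟩ := hdec _ ((hmemP _).1 b.2)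
    · rcases Perm.FourAct.mem_pairGroup.1 he with h | h | h | h <;> rw [h] at hbe
      · left; rw [show b = 1 from Subtype.ext (Subtype.ext hbe)]; exact one_mem _
      · left; rw [show b = cA * cA from Subtype.ext (Subtype.ext hbe)]; exact huA
      · right
        rw [show b * vA = 1 from Subtype.ext (Subtype.ext (by
          show ((b : X.A) : G) * v = 1; rw [hbe, hv2]))]
        exact one_mem _
      · right
        rw [show b * vA = cA * cA from Subtype.ext (Subtype.ext (by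
          show ((b : X.A) : G) * v = u; rw [hbe, mul_assoc, hv2, mul_one]))]
        exact huA
    · have hcv' : X.c * v = u * v * X.c := mul_inv_eq_iff_eq_mul.1 hcv
      rcases Perm.FourAct.mem_pairGroup.1 he with h | h | h | h <;> rw [h] at hbe
      · left; rw [show b = cA from Subtype.ext (Subtype.ext (by rw [hbe, one_mul]))]
        exact mem_zpowers _
      · left; rw [show b = cA * cA * cA from Subtype.ext (Subtype.ext hbe)]
        exact mul_mem huA (mem_zpowers _)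
      · right
        rw [show b * vA = cA * cA * cA from Subtype.ext (Subtype.ext (by
          show ((b : X.A) : G) * v = u * X.c
          rw [hbe, mul_assoc, hcv', ← mul_assoc, ← mul_assoc,
            show v * u = u * v from X.huc v (X.hST hvS), mul_assoc u v v, hv2, mul_one]))]
        exact mul_mem huA (mem_zpowers _)
      · right
        rw [show b * vA = cA from Subtype.ext (Subtype.ext (by
          show ((b : X.A) : G) * v = X.c
          rw [hbe, mul_assoc, hcv', ← mul_assoc, ← mul_assoc, mul_assoc u v u,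
            show v * u = u * v from X.huc v (X.hST hvS),
            ← mul_assoc u u v, X.hu2, one_mul, hv2, one_mul]))]
        exact mem_zpowers _
  obtain ⟨g, m, ⟨k, hk⟩, hg⟩ := fuse_into X.hperf P (zpowers cA) vA
    (Subtype.ext (Subtype.ext hv2)) hvc hcov
  have hgv : (g : G) * v * (g : G)⁻¹ = u := by
    have h1 : (g : G) * v * (g : G)⁻¹ = X.c ^ k := by
      have := congrArg (Subtype.val) hg
      rw [← hk] at this
      simpa [cA, vA] using this
    have h2 : X.c ^ k * X.c ^ k = 1 := by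
      rw [← h1]
      calc (g : G) * v * (g : G)⁻¹ * ((g : G) * v * (g : G)⁻¹) = (g : G) * (v * v) * (g : G)⁻¹ := by group
        _ = 1 := by rw [hv2]; group
    rcases hpc k with h | h | h | h <;> rw [h] at h1 h2
    · exact absurd (conj_eq_one_iff.1 h1) hv1
    · exact h1
    · exact absurd h2 X.hu1
    · refine absurd ?_ X.hu1
      calc X.c * X.c = (X.c * X.c) * ((X.c * X.c) * (X.c * X.c)) := by rw [X.hu2, mul_one]
        _ = X.c * (X.c * X.c) * (X.c * (X.c * X.c)) := by group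
        _ = 1 := h2
  -- the square trick
  set s := X.t * X.c with hs
  have hss : s * s = u := by
    calc s * s = X.t * (X.c * X.t) * X.c := by rw [hs]; group
      _ = (X.t * X.t) * (X.c * X.c) := by rw [← X.htc]; group
      _ = u := by rw [X.ht2, one_mul]
  have hsv : s * v = v * s := by
    refine mul_inv_eq_iff_eq_mul.1 ?_
    calc s * v * s⁻¹ = X.t * (X.c * v * X.c⁻¹) * X.t⁻¹ := by rw [hs]; group
      _ = (X.t * u * X.t⁻¹) * (X.t * v * X.t⁻¹) := by rw [hcv]; group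
      _ = v := by rw [hctv, hcu _ X.htT, ← mul_assoc, X.hu2, one_mul]
  have hgA : (g : G) ∈ X.A ⊔ zpowers X.t := Subgroup.mem_sup_left g.2
  set s' := (g : G) * s * (g : G)⁻¹ with hs'
  have hs4 : s ^ 4 = 1 := by rw [show (4 : ℕ) = 2 + 2 from rfl, pow_add, sq, hss, X.hu2]
  have hs'2 : IsPGroup 2 (zpowers s') := by
    obtain ⟨j, -, hj⟩ := (Nat.dvd_prime_pow Nat.prime_two).1
      (orderOf_dvd_of_pow_eq_one (show s' ^ 4 = 1 by rw [hs', conj_pow, hs4]; group) : orderOf s' ∣ 2 ^ 2)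
    exact IsPGroup.of_card (n := j) (by rw [Nat.card_zpowers, hj])
  have hBmem : ∀ a, a ∈ X.A ⊔ zpowers X.t → a * u = u * a → a ∈ (X.A ⊔ zpowers X.t) ⊓ centralizer {u} :=
    fun a ha hau => ⟨ha, fun b hb => by rw [Set.mem_singleton_iff] at hb; subst hb; exact hau.symm⟩
  have hs'B : s' ∈ (X.A ⊔ zpowers X.t) ⊓ centralizer {u} := by
    refine hBmem _ (mul_mem (mul_mem hgA (mul_mem (Subgroup.mem_sup_right (mem_zpowers _))
      (Subgroup.mem_sup_left (X.hSA X.hcS)))) (inv_mem hgA)) ?_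
    rw [← hgv, hs']
    calc (g : G) * s * (g : G)⁻¹ * ((g : G) * v * (g : G)⁻¹) = (g : G) * (s * v) * (g : G)⁻¹ := by group
      _ = (g : G) * (v * s) * (g : G)⁻¹ := by rw [hsv]
      _ = _ := by group
  obtain ⟨k', hk', hkT⟩ := Perm.FourAct.conj_into
    (fun a ha => hBmem a (X.hTTle ha) (X.huc a ha)) X.hTT2
    (fun R hR hR2 => X.hTTmax R (hR.trans inf_le_left) hR2) (zpowers_le.2 hs'B) hs'2
  have hku : k' * u * k'⁻¹ = u := by rw [← hk'.2 u rfl, mul_inv_cancel_right]
  have hsq : (k' * s' * k'⁻¹) * (k' * s' * k'⁻¹) = (k' * (g : G)) * u * (k' * (g : G))⁻¹ := by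
    rw [hs', ← hss]; group
  rcases hTsq _ (hkT s' (mem_zpowers s')) with h | h <;> rw [hsq] at h
  · exact X.hu1 (conj_eq_one_iff.1 h)
  · refine hvu ?_
    have h2 : (k' * (g : G)) * v * (k' * (g : G))⁻¹ = u := by
      calc (k' * (g : G)) * v * (k' * (g : G))⁻¹ = k' * ((g : G) * v * (g : G)⁻¹) * k'⁻¹ := by group
        _ = u := by rw [hgv, hku]
    exact (mul_left_cancel (mul_right_cancel (h2.trans h.symm)))

end Setting

end Cfsg.Agent.InvFour5
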