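import Cfsg.Agent.InvFour5.Main

/-!
Without a normal invariant four-group the Sylow subgroup has an abelian subgroup of index 2 with one
involution, and transfer moves `t` to an involution with too large a centraliser.
-/

set_option autoImplicit false

namespace Cfsg.Agent.InvFour5.Setting

open Subgroup
open scoped Pointwise

variable {G : Type*} [Group G] [Finite G] (X : Setting (G := G))

theorem rank_one : Cfsg.PRankLE 2 1 X.A := by
  classical
  haveI : Fact (Nat.Prime 2) := ⟨Nat.prime_two⟩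
  by_contra hcon
  set u := X.c * X.c with hu
  have huS : u ∈ X.S := mul_mem X.hcS X.hcS
  have hcT : X.c ∈ X.TT := X.hST X.hcS
  have huu : u * u = 1 := X.hu2
  have hui : u⁻¹ = u := inv_eq_of_mul_eq_one_right huu
  have hTu : ∀ τ ∈ X.TT, τ * u * τ⁻¹ = u := fun τ hτ => by rw [X.huc τ hτ, mul_inv_cancel_right]
  have hTTS : ∀ τ ∈ X.TT, ∀ a ∈ X.S, τ * a * τ⁻¹ ∈ X.S := fun τ hτ a ha => X.hSn hτ ha
  have hTn : X.TT ≤ normalizer (X.S : Set G) := fun τ hτ =>
    mem_normalizer_iff.2 fun a => ⟨hTTS τ hτ a, fun h => by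
      have := hTTS _ (inv_mem hτ) _ h
      simpa [mul_assoc] using this⟩
  -- a second involution
  obtain ⟨s, hsS, hs2, hs1, hsu⟩ : ∃ s ∈ X.S, s * s = 1 ∧ s ≠ 1 ∧ s ≠ u := by
    by_contra hh
    push Not at hh
    refine hcon fun F hFc hF2 => ?_
    have hF : IsPGroup 2 (F.map X.A.subtype) := by
      rintro ⟨_, f, hf, rfl⟩
      exact ⟨1, Subtype.ext (by simpa using congrArg Subtype.val (hF2 f hf))⟩
    obtain ⟨a, ha, hq⟩ := X.conjA ((Subgroup.map_subtype_le F).trans le_sup_left) hF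
    have hmem : ∀ f : F, a * ((f : X.A) : G) * a⁻¹ ∈ ({1, u} : Set G) := fun f => by
      have h2 : ((f : X.A) : G) * ((f : X.A) : G) = 1 := by
        simpa [sq] using congrArg Subtype.val (hF2 f f.2)
      have hsq : (a * ((f : X.A) : G) * a⁻¹) * (a * ((f : X.A) : G) * a⁻¹) = 1 := by
        calc _ = a * (((f : X.A) : G) * ((f : X.A) : G)) * a⁻¹ := by group
          _ = 1 := by rw [h2]; group
      by_cases h1 : a * ((f : X.A) : G) * a⁻¹ = 1
      · exact Or.inl h1
      · refine Or.inr (hh _ ?_ hsq h1)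
        rw [X.hS]
        exact Subgroup.mem_inf.2 ⟨hq _ ⟨f, f.2, rfl⟩, mul_mem (mul_mem ha (f : X.A).2) (inv_mem ha)⟩
    have hle : Nat.card F ≤ Nat.card ({1, u} : Set G) :=
      Nat.card_le_card_of_injective (fun f => ⟨_, hmem f⟩) (fun f f' h => by
        simpa using congrArg Subtype.val h)
    have := Set.ncard_insert_le (1 : G) {u}
    rw [Set.ncard_singleton] at this
    rw [Nat.card_coe_set_eq] at hle
    omega
  -- the maximal invariant abelian subgroup
  obtain ⟨M, ⟨huM, hMS, hMc, hMn⟩, hMmax⟩ := Set.Finite.exists_maximalFor id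
    {M : Subgroup G | u ∈ M ∧ M ≤ X.S ∧ IsMulCommutative M ∧ X.TT ≤ normalizer (M : Set G)}
    (Set.toFinite _) (by
      refine ⟨Subgroup.zpowers u, Subgroup.mem_zpowers u, Subgroup.zpowers_le.2 huS,
        inferInstance, fun τ hτ => Subgroup.centralizer_le_normalizer _ ?_⟩
      rw [Subgroup.mem_centralizer_iff]
      rintro _ ⟨k, rfl⟩
      exact ((Commute.zpow_right (X.huc τ hτ) k).eq).symm)
  have hcm : ∀ a ∈ M, ∀ b ∈ M, a * b = b * a := fun a ha b hb =>
    congrArg Subtype.val (hMc.is_comm.comm ⟨a, ha⟩ ⟨b, hb⟩)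
  have hTM : ∀ τ ∈ X.TT, ∀ g ∈ M, τ * g * τ⁻¹ ∈ M := fun τ hτ g hg =>
    (Subgroup.mem_normalizer_iff.1 (hMn hτ) g).1 hg
  have hM2 : IsPGroup 2 M := X.hS2.to_le hMS
  have hfixu : ∀ a ∈ X.S, X.t * a * X.t⁻¹ = a → a * a = 1 → a = 1 ∨ a = u := by
    intro a ha hf h2
    rcases X.hfix a ha hf with h | h | h | h
    · exact Or.inl h
    · exact Or.inr h
    · rw [h] at h2; exact absurd h2 X.hu1
    · rw [h] at h2
      refine absurd ?_ X.hu1
      calc X.c * X.c = (X.c * X.c) * ((X.c * X.c) * (X.c * X.c)) := by rw [X.hu2, mul_one]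
        _ = X.c * (X.c * X.c) * (X.c * (X.c * X.c)) := by group
        _ = 1 := h2
  -- `M` has a unique involution
  have huniq : ∀ e ∈ M, e * e = 1 → e = 1 ∨ e = u := by
    have hflip : ∀ f ∈ M, f * f = 1 → f ≠ 1 → f ≠ u → X.t * f * X.t⁻¹ = u * f := by
      intro f hf hf2 hf1 hfu
      have hf' := hTM _ X.htT f hf
      have h2 : (f * (X.t * f * X.t⁻¹)) * (f * (X.t * f * X.t⁻¹)) = 1 := by
        rw [mul_assoc, ← mul_assoc _ f, ← hcm f hf _ hf', mul_assoc f, ← mul_assoc, hf2, one_mul]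
        calc X.t * f * X.t⁻¹ * (X.t * f * X.t⁻¹) = X.t * (f * f) * X.t⁻¹ := by group
          _ = 1 := by rw [hf2]; group
      have hfixed : X.t * (f * (X.t * f * X.t⁻¹)) * X.t⁻¹ = f * (X.t * f * X.t⁻¹) := by
        calc X.t * (f * (X.t * f * X.t⁻¹)) * X.t⁻¹
            = (X.t * f * X.t⁻¹) * ((X.t * X.t) * f * (X.t * X.t)⁻¹) := by group
          _ = _ := by rw [X.ht2, one_mul, inv_one, mul_one, hcm _ hf' f hf]
      rcases hfixu _ (hMS (mul_mem hf hf')) hfixed h2 with h | h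
      · exfalso
        rw [mul_eq_one_iff_inv_eq, inv_eq_of_mul_eq_one_right hf2] at h
        rcases hfixu f (hMS hf) h.symm hf2 with h' | h'
        exacts [hf1 h', hfu h']
      · calc X.t * f * X.t⁻¹ = (f * f) * (X.t * f * X.t⁻¹) := by rw [hf2, one_mul]
          _ = f * (f * (X.t * f * X.t⁻¹)) := by group
          _ = f * u := by rw [h]
          _ = u * f := hcm f hf u huM
    intro e heM he
    by_contra hne
    push Not at hne
    refine X.no_four (hMS heM) he hne.1 hne.2 fun τ hτ => ?_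
    set f := τ * e * τ⁻¹ with hf
    have hfM : f ∈ M := hTM τ hτ e heM
    have hff : f * f = 1 := by
      calc f * f = τ * (e * e) * τ⁻¹ := by rw [hf]; group
        _ = 1 := by rw [he]; group
    have hf1 : f ≠ 1 := fun h => hne.1 (conj_eq_one_iff.1 (hf ▸ h))
    have hfu : f ≠ u := fun h => hne.2 (by
      have : τ * e * τ⁻¹ = τ * u * τ⁻¹ := by rw [← hf, h, hTu τ hτ]
      exact mul_left_cancel (mul_right_cancel this))
    have h2 : (e * f) * (e * f) = 1 := by
      rw [mul_assoc, ← mul_assoc f, hcm f hfM e heM, mul_assoc e f f, ← mul_assoc, he, one_mul, hff]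
    have hfixed : X.t * (e * f) * X.t⁻¹ = e * f := by
      calc X.t * (e * f) * X.t⁻¹ = (X.t * e * X.t⁻¹) * (X.t * f * X.t⁻¹) := by group
        _ = (u * e) * (u * f) := by rw [hflip e heM he hne.1 hne.2, hflip f hfM hff hf1 hfu]
        _ = (u * (e * u)) * f := by group
        _ = e * f := by rw [hcm e heM u huM, ← mul_assoc u u e, huu, one_mul]
    rcases hfixu _ (hMS (mul_mem heM hfM)) hfixed h2 with h | h
    · left
      rw [mul_eq_one_iff_inv_eq, inv_eq_of_mul_eq_one_right he] at h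
      exact h.symm
    · right
      calc f = (e * e) * f := by rw [he, one_mul]
        _ = e * (e * f) := by group
        _ = e * u := by rw [h]
        _ = u * e := hcm e heM u huM
  -- `M` is self-centralising in `S`
  have hself : ∀ x ∈ X.S, (∀ g ∈ M, x * g = g * x) → x ∈ M := by
    by_contra hh
    push Not at hh
    obtain ⟨x, hxS, hxc, hxM⟩ := hh
    let C : Subgroup G := X.S ⊓ centralizer (M : Set G)
    have hMC : M ≤ C := le_inf hMS fun a ha b hb => hcm b hb a ha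
    have hne : M ≠ C := fun h => hxM (h ▸ ⟨hxS, fun g hg => (hxc g hg).symm⟩)
    have hcl : ∀ τ ∈ X.TT, ∀ c ∈ C, τ * c * τ⁻¹ ∈ C := by
      rintro τ hτ c ⟨hcS, hcc⟩
      refine ⟨hTTS τ hτ c hcS, fun g hg => ?_⟩
      have h1 := hcc _ (hTM _ (inv_mem hτ) g hg)
      calc g * (τ * c * τ⁻¹) = τ * ((τ⁻¹ * g * τ⁻¹⁻¹) * c) * τ⁻¹ := by group
        _ = τ * (c * (τ⁻¹ * g * τ⁻¹⁻¹)) * τ⁻¹ := by rw [h1]
        _ = τ * c * τ⁻¹ * g := by group
    have hCn : X.TT ≤ normalizer (C : Set G) := fun τ hτ =>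
      Subgroup.mem_normalizer_iff.2 fun c => ⟨hcl τ hτ c, fun h => by
        have := hcl _ (inv_mem hτ) _ h
        simpa [mul_assoc] using this⟩
    obtain ⟨y, hyC, hyM, -, hyc⟩ := Perm.FourAct.exists_central_mod X.hTT2 hMC
      (inf_le_left.trans X.hST) hne hMn hCn
    have hle : M ⊔ zpowers y ≤ M := by
      refine hMmax ⟨Subgroup.mem_sup_left huM, sup_le hMS (zpowers_le.2 hyC.1), ?_, ?_⟩ le_sup_left
      · rw [← le_centralizer_iff_isMulCommutative]
        refine sup_le ?_ (zpowers_le.2 ?_)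
        · rw [le_centralizer_iff]
          refine sup_le (fun a ha b hb => hcm b hb a ha) (zpowers_le.2 fun g hg => hyC.2 g hg)
        · rw [← zpowers_le, le_centralizer_iff]
          refine sup_le (fun a ha b hb => ?_) ?_
          · obtain ⟨k, rfl⟩ := hb
            exact (Commute.zpow_left (hyC.2 a ha).symm k).eq
          · exact le_centralizer_iff_isMulCommutative.2 inferInstance
      · intro τ hτ
        have hcl' : ∀ τ ∈ X.TT, ∀ c ∈ M ⊔ zpowers y, τ * c * τ⁻¹ ∈ M ⊔ zpowers y := by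
          intro τ hτ c hc
          have : (M ⊔ zpowers y).map (MulAut.conj τ).toMonoidHom ≤ M ⊔ zpowers y := by
            rw [Subgroup.map_sup, MonoidHom.map_zpowers]
            refine sup_le ?_ (zpowers_le.2 ?_)
            · rintro _ ⟨g, hg, rfl⟩
              exact Subgroup.mem_sup_left (hTM τ hτ g hg)
            · have := mul_mem (Subgroup.mem_sup_left (T := zpowers y) (hyc τ hτ))
                (Subgroup.mem_sup_right (S := M) (mem_zpowers y))
              simpa using this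
          exact this ⟨c, hc, rfl⟩
        refine Subgroup.mem_normalizer_iff.2 fun c => ⟨hcl' τ hτ c, fun h => ?_⟩
        have := hcl' _ (inv_mem hτ) _ h
        simpa [mul_assoc] using this
    exact hyM (hle (Subgroup.mem_sup_right (mem_zpowers y)))
  -- an element of order four in `M`
  obtain ⟨w, hwM, hww⟩ : ∃ w ∈ M, w * w = u := by
    obtain ⟨g, hg, hg2⟩ : ∃ g ∈ M, g * g ≠ 1 := by
      by_contra hh
      push Not at hh
      have hall : ∀ x ∈ X.S, x ∈ M := fun x hx => hself x hx fun g hg => by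
        rcases huniq g hg (hh g hg) with rfl | rfl
        · simp
        · exact X.huc x (X.hST hx)
      exact (huniq s (hall s hsS) hs2).elim hs1 hsu
    obtain ⟨n, hn⟩ := (IsPGroup.iff_orderOf.1 hM2) ⟨g, hg⟩
    rw [Subgroup.orderOf_mk] at hn
    obtain ⟨m, rfl⟩ : ∃ m, n = m + 2 := by
      refine ⟨n - 2, ?_⟩
      by_contra h
      apply hg2
      rw [← sq]
      exact orderOf_dvd_iff_pow_eq_one.1 (hn ▸ (Nat.pow_dvd_pow 2 (show n ≤ 1 by omega)).trans (by simp))
    refine ⟨g ^ 2 ^ m, pow_mem hg _, (huniq _ (mul_mem (pow_mem hg _) (pow_mem hg _)) ?_).resolve_left ?_⟩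
    · rw [← pow_add, ← pow_add, show 2 ^ m + 2 ^ m + (2 ^ m + 2 ^ m) = 2 ^ (m + 2) by ring,
        ← hn, pow_orderOf_eq_one]
    · rw [← pow_add, ← two_mul, ← pow_succ']
      exact pow_ne_one_of_lt_orderOf (pow_ne_zero _ two_ne_zero)
        (by rw [hn]; exact Nat.pow_lt_pow_right one_lt_two (Nat.lt_succ_self _))
  have hwS : w ∈ X.S := hMS hwM
  have hwi : w⁻¹ = w * u := by
    rw [inv_eq_iff_mul_eq_one, ← mul_assoc, hww, huu]
  have hwu : w * u ≠ w := fun h => X.hu1 (mul_eq_left.1 h)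
  -- square roots of `u` in `M`
  have hroot : ∀ f ∈ M, f * f = u → f = w ∨ f = w * u := by
    intro f hfM hff
    have h1 : (w⁻¹ * f) * (w⁻¹ * f) = 1 := by
      rw [mul_assoc, ← mul_assoc f, hcm f hfM _ (inv_mem hwM), mul_assoc w⁻¹ f f, hff, ← hww]
      group
    rcases huniq _ (mul_mem (inv_mem hwM) hfM) h1 with h | h
    · exact Or.inl (inv_mul_eq_one.1 h).symm
    · exact Or.inr (inv_mul_eq_iff_eq_mul.1 h)
  have himg : ∀ τ ∈ X.TT, τ * w * τ⁻¹ = w ∨ τ * w * τ⁻¹ = w * u := fun τ hτ =>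
    hroot _ (hTM τ hτ w hwM) (by
      calc τ * w * τ⁻¹ * (τ * w * τ⁻¹) = τ * (w * w) * τ⁻¹ := by group
        _ = u := by rw [hww, hTu τ hτ])
  -- `C_S(w) = M`
  have hCw : ∀ x ∈ X.S, x * w * x⁻¹ = w → x ∈ M := by
    by_contra hh
    push Not at hh
    obtain ⟨x₁, hx₁S, hx₁w, hx₁M⟩ := hh
    let C : Subgroup G := X.S ⊓ centralizer {w}
    have hMC : M ≤ C := le_inf hMS fun a ha b hb => by
      rw [Set.mem_singleton_iff] at hb; subst hb; exact hcm b hwM a ha
    have hne : M ≠ C := fun h => hx₁M (h ▸ ⟨hx₁S, fun b hb => by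
      rw [Set.mem_singleton_iff] at hb; subst hb; exact (mul_inv_eq_iff_eq_mul.1 hx₁w).symm⟩)
    have hcl : ∀ τ ∈ X.TT, ∀ c ∈ C, τ * c * τ⁻¹ ∈ C := by
      rintro τ hτ c ⟨hcS, hcw⟩
      refine ⟨hTTS τ hτ c hcS, fun b hb => ?_⟩
      rw [Set.mem_singleton_iff] at hb
      rw [hb]
      have hcw' : Commute c w := (hcw w rfl).symm
      have hcv : Commute c (τ⁻¹ * w * τ⁻¹⁻¹) := by
        rcases himg _ (inv_mem hτ) with h | h
        · rw [h]; exact hcw'
        · rw [h, ← hwi]; exact hcw'.inv_right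
      calc w * (τ * c * τ⁻¹) = τ * ((τ⁻¹ * w * τ⁻¹⁻¹) * c) * τ⁻¹ := by group
        _ = τ * (c * (τ⁻¹ * w * τ⁻¹⁻¹)) * τ⁻¹ := by rw [hcv.eq]
        _ = τ * c * τ⁻¹ * w := by group
    have hCn : X.TT ≤ normalizer (C : Set G) := fun τ hτ =>
      Subgroup.mem_normalizer_iff.2 fun c => ⟨hcl τ hτ c, fun h => by
        have := hcl _ (inv_mem hτ) _ h
        simpa [mul_assoc] using this⟩
    obtain ⟨x, ⟨hxS, hxw'⟩, hxM, hxx, hxt⟩ := Perm.FourAct.exists_central_mod X.hTT2 hMC
      (inf_le_left.trans X.hST) hne hMn hCn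
    have hxw : x * w * x⁻¹ = w := by rw [← hxw' w rfl, mul_inv_cancel_right]
    have hxT : x ∈ X.TT := X.hST hxS
    have hmv := Perm.FourAct.moves_by_z hM2 hMc X.hu1 huniq hwM hww (hTM x hxT) hxw
      (fun g hg => hcm _ hxx g hg)
    have hfixsq : ∀ g ∈ M, x * (g * g) * x⁻¹ = g * g := fun g hg => by
      have e : x * (g * g) * x⁻¹ = (x * g * x⁻¹) * (x * g * x⁻¹) := by group
      rcases hmv g hg with h | h <;> rw [e, h]
      rw [mul_assoc, ← mul_assoc u, hcm u huM g hg, mul_assoc g u u, huu, mul_one]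
    obtain ⟨g₀, hg₀, hq⟩ : ∃ g₀ ∈ M, g₀ * g₀ = (x * x)⁻¹ := by
      letI : CommGroup M := { (inferInstance : Group M) with mul_comm := hMc.is_comm.comm }
      let sqh : M →* M := powMonoidHom 2
      have hker : Nat.card sqh.ker ≤ 2 := by
        have hmem : ∀ k : sqh.ker, ((k : M) : G) ∈ ({1, u} : Set G) := fun k => by
          have h := congrArg Subtype.val (MonoidHom.mem_ker.1 k.2)
          rcases huniq _ (k : M).2 (by simpa [sqh, powMonoidHom_apply, sq] using h) with h | h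
          · exact Or.inl h
          · exact Or.inr h
        have hle : Nat.card sqh.ker ≤ Nat.card ({1, u} : Set G) :=
          Nat.card_le_card_of_injective (fun k => ⟨_, hmem k⟩) (fun a b h => by
            simpa using congrArg Subtype.val h)
        have := Set.ncard_insert_le (1 : G) {u}
        rw [Set.ncard_singleton] at this
        rw [Nat.card_coe_set_eq] at hle
        omega
      by_contra hh
      push Not at hh
      have hnr : (⟨x * x, hxx⟩ : M) ∉ sqh.range := by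
        rintro ⟨g, hg⟩
        apply hh (g : G)⁻¹ (inv_mem g.2)
        have h' : (g : G) * g = x * x := by simpa [sqh, sq] using congrArg Subtype.val hg
        rw [← h', mul_inv_rev]
      have hidx : sqh.range.index = 2 := by
        have e1 := sqh.range.card_mul_index
        have e2 := sqh.ker.card_mul_index
        rw [Subgroup.index_ker] at e2
        have hpos : 0 < Nat.card sqh.range := Nat.card_pos
        have hne1 : sqh.range.index ≠ 1 := by
          intro h
          rw [Subgroup.index_eq_one] at h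
          exact hnr (h ▸ Subgroup.mem_top _)
        have hne0 : sqh.range.index ≠ 0 := Subgroup.index_ne_zero_of_finite
        have : sqh.range.index ≤ 2 := by
          have hk : sqh.range.index = Nat.card sqh.ker := by
            apply Nat.eq_of_mul_eq_mul_left hpos
            rw [e1, ← e2, mul_comm]
          omega
        omega
      apply hxM
      refine hself x hxS fun g hg => mul_inv_eq_iff_eq_mul.1 ?_
      by_cases hgr : (⟨g, hg⟩ : M) ∈ sqh.range
      · obtain ⟨g', hg'⟩ := hgr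
        have h' : (g' : G) * g' = g := by simpa [sqh, sq] using congrArg Subtype.val hg'
        rw [← h']
        exact hfixsq _ g'.2
      · have hmem : (⟨g, hg⟩ : M) * ⟨x * x, hxx⟩ ∈ sqh.range :=
          (Subgroup.mul_mem_iff_of_index_two hidx).2 (iff_of_false hgr hnr)
        obtain ⟨g', hg'⟩ := hmem
        have h' : (g' : G) * g' = g * (x * x) := by simpa [sqh, sq] using congrArg Subtype.val hg'
        have := hfixsq _ g'.2
        rw [h'] at this
        calc x * g * x⁻¹ = x * (g * (x * x)) * x⁻¹ * (x * x)⁻¹ := by group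
          _ = g := by rw [this, mul_inv_cancel_right]
    obtain ⟨g₁, hg₁, hφ⟩ : ∃ g₁ ∈ M, x⁻¹ * g₁ * x * g₁ = g₀ * g₀ := by
      rcases hmv g₀ hg₀ with h | h
      · refine ⟨g₀, hg₀, ?_⟩
        nth_rewrite 1 [← h]
        group
      · refine ⟨g₀ * w, mul_mem hg₀ hwM, ?_⟩
        have hb : x⁻¹ * (g₀ * w) * x = g₀ * u * w := by
          have hxu : x * u * x⁻¹ = u := hTu x hxT
          have : x * (g₀ * u * w) * x⁻¹ = g₀ * w := by
            calc x * (g₀ * u * w) * x⁻¹ = (x * g₀ * x⁻¹) * (x * u * x⁻¹) * (x * w * x⁻¹) := by group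
              _ = g₀ * w := by rw [h, hxu, hxw, mul_assoc g₀ u u, huu, mul_one]
          rw [← this]; group
        rw [hb, hcm g₀ hg₀ w hwM]
        calc g₀ * u * w * (w * g₀) = g₀ * u * (w * w) * g₀ := by group
          _ = g₀ * g₀ := by rw [hww, mul_assoc g₀ u u, huu, mul_one]
    set v := x * g₁ with hv
    have hvS : v ∈ X.S := mul_mem hxS (hMS hg₁)
    have hv2 : v * v = 1 := by
      calc v * v = (x * x) * (x⁻¹ * g₁ * x * g₁) := by rw [hv]; group
        _ = 1 := by rw [hφ, hq, mul_inv_cancel]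
    have hvM : v ∉ M := fun h => hxM (by
      have := mul_mem h (inv_mem hg₁)
      rwa [hv, mul_inv_cancel_right] at this)
    refine X.no_four hvS hv2 (fun h => hvM (h ▸ one_mem M)) (fun h => hvM (h ▸ huM)) fun τ hτ => ?_
    have hmem : v⁻¹ * (τ * v * τ⁻¹) ∈ M := by
      have hm := hxt τ hτ
      have hg' := hTM τ hτ g₁ hg₁
      have hxi := hTM _ (inv_mem hxT) _ hm
      have e : v⁻¹ * (τ * v * τ⁻¹) =
          g₁⁻¹ * (x⁻¹ * (τ * x * τ⁻¹ * x⁻¹) * x⁻¹⁻¹) * (τ * g₁ * τ⁻¹) := by rw [hv]; group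
      rw [e]
      exact mul_mem (mul_mem (inv_mem hg₁) hxi) hg'
    set m := v⁻¹ * (τ * v * τ⁻¹) with hm
    have hvm : τ * v * τ⁻¹ = v * m := by rw [hm]; group
    have hvm2 : (v * m) * (v * m) = 1 := by
      rw [← hvm]
      calc _ = τ * (v * v) * τ⁻¹ := by group
        _ = 1 := by rw [hv2]; group
    have hvw : v * w * v⁻¹ = w := by
      calc v * w * v⁻¹ = x * (g₁ * w * g₁⁻¹) * x⁻¹ := by rw [hv]; group
        _ = w := by rw [hcm g₁ hg₁ w hwM, mul_inv_cancel_right, hxw]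
    have hinv : v * m * v⁻¹ = m⁻¹ := by
      rw [inv_eq_of_mul_eq_one_right hv2]
      exact eq_inv_of_mul_eq_one_left (by rw [← hvm2]; group)
    have hmz := Perm.FourAct.moves_by_z hM2 hMc X.hu1 huniq hwM hww
      (hTM v (X.hST hvS)) hvw (fun g _ => by rw [hv2]; simp) m hmem
    rw [hinv] at hmz
    rcases hmz with h | h
    · rcases huniq m hmem (by rw [← eq_inv_iff_mul_eq_one]; exact h.symm) with h' | h'
      · left; rw [hvm, h', mul_one]
      · right; rw [hvm, h']; exact X.huc v (X.hST hvS)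
    · exfalso
      have hm2 : m * m = u := by
        have h' : m * m * u = 1 := by rw [mul_assoc, ← h, mul_inv_cancel]
        rw [mul_eq_one_iff_eq_inv.1 h', hui]
      have hfix : v * m * v⁻¹ = m := by
        rcases hroot m hmem hm2 with h' | h' <;> rw [h']
        · exact hvw
        · rw [← hwi]
          conv_rhs => rw [← hvw]
          group
      rw [hfix, eq_inv_iff_mul_eq_one] at hinv
      rw [hinv] at hm2
      exact X.hu1 hm2.symm
  -- every element outside `M` inverts `w`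
  have hout : ∀ x ∈ X.S, x ∉ M → x * w * x⁻¹ = w * u := fun x hx hxM =>
    (himg x (X.hST hx)).resolve_left fun h => hxM (hCw x hx h)
  have hsM : s ∉ M := fun h => (huniq s h hs2).elim hs1 hsu
  have hsi : s⁻¹ = s := inv_eq_of_mul_eq_one_right hs2
  have hMidx : ∀ a ∈ X.S, ∀ b ∈ X.S, a ∉ M → b ∉ M → a * b ∈ M := fun a ha b hb haM hbM => by
    refine hCw _ (mul_mem ha hb) ?_
    calc a * b * w * (a * b)⁻¹ = a * (b * w * b⁻¹) * a⁻¹ := by group
      _ = (a * w * a⁻¹) * (a * u * a⁻¹) := by rw [hout b hb hbM]; group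
      _ = w := by rw [hout a ha haM, hTu a (X.hST ha), mul_assoc, huu, mul_one]
  have hwsu : w * s * w⁻¹ = s * u := by
    have h := hout s hsS hsM
    rw [hsi] at h
    calc w * s * w⁻¹ = s * (s * w * s) * w⁻¹ := by rw [← mul_assoc s, ← mul_assoc s, hs2, one_mul]
      _ = s * u := by rw [h, hcm w hwM u huM, mul_assoc, mul_inv_cancel_right]
  by_cases hcM : X.c ∈ M
  · -- `t` fixes `w`
    have htw : X.t * w * X.t⁻¹ = w := by
      have htc : X.t * X.c * X.t⁻¹ = X.c := by rw [X.htc, mul_inv_cancel_right]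
      rcases hroot X.c hcM rfl with h | h
      · rw [← h]; exact htc
      · calc X.t * w * X.t⁻¹ = X.t * (X.c * u) * X.t⁻¹ := by rw [h, mul_assoc w u u, huu, mul_one]
          _ = (X.t * X.c * X.t⁻¹) * (X.t * u * X.t⁻¹) := by group
          _ = w := by rw [htc, hTu _ X.htT, h, mul_assoc, huu, mul_one]
    have hmv := Perm.FourAct.moves_by_z hM2 hMc X.hu1 huniq hwM hww (hTM _ X.htT) htw
      (fun g _ => by rw [X.ht2]; simp)
    set g := s⁻¹ * (X.t * s * X.t⁻¹) with hg
    have hgs : X.t * s * X.t⁻¹ = s * g := by rw [hg]; group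
    have hgS : g ∈ X.S := mul_mem (inv_mem hsS) (hTTS _ X.htT s hsS)
    have htwi : X.t⁻¹ * w * X.t = w := by nth_rewrite 1 [← htw]; group
    have hgM : g ∈ M := by
      refine hCw g hgS ?_
      have e1 : (X.t * s * X.t⁻¹) * w * (X.t * s * X.t⁻¹)⁻¹ = w * u := by
        calc _ = X.t * (s * (X.t⁻¹ * w * X.t) * s⁻¹) * X.t⁻¹ := by group
          _ = (X.t * w * X.t⁻¹) * (X.t * u * X.t⁻¹) := by rw [htwi, hout s hsS hsM]; group
          _ = w * u := by rw [htw, hTu _ X.htT]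
      calc g * w * g⁻¹ = s⁻¹ * ((X.t * s * X.t⁻¹) * w * (X.t * s * X.t⁻¹)⁻¹) * s := by rw [hg]; group
        _ = w := by rw [e1, ← hout s hsS hsM]; group
    have h3 : g * (X.t * g * X.t⁻¹) = 1 := by
      have e : X.t * (X.t * s * X.t⁻¹) * X.t⁻¹ = s := by
        calc X.t * (X.t * s * X.t⁻¹) * X.t⁻¹ = (X.t * X.t) * s * (X.t * X.t)⁻¹ := by group
          _ = s := by rw [X.ht2]; group
      rw [hgs, show X.t * (s * g) * X.t⁻¹ = (X.t * s * X.t⁻¹) * (X.t * g * X.t⁻¹) by group, hgs,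
        mul_assoc] at e
      exact mul_eq_left.1 e
    rcases hmv g hgM with h | h
    · rw [h] at h3
      rcases huniq g hgM h3 with h' | h'
      · rw [h', mul_one] at hgs
        exact (hfixu s hsS hgs hs2).elim hs1 hsu
      · rw [h'] at hgs
        by_cases hall : ∀ a ∈ M, X.t * a * X.t⁻¹ = a
        · -- then `M = ⟨w⟩` and `{1, u, s, s u}` is normal
          have hMsmall : ∀ a ∈ M, a = 1 ∨ a = u ∨ a = w ∨ a = w * u := by
            intro a ha
            rcases X.hfix a (hMS ha) (hall a ha) with h1 | h1 | h1 | h1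
            · exact Or.inl h1
            · exact Or.inr (Or.inl h1)
            · exact Or.inr (Or.inr (hroot a ha (by rw [h1])))
            · refine Or.inr (Or.inr (hroot a ha ?_))
              rw [h1]
              calc X.c * (X.c * X.c) * (X.c * (X.c * X.c))
                  = (X.c * X.c) * ((X.c * X.c) * (X.c * X.c)) := by group
                _ = u := by rw [X.hu2, mul_one]
          have hsu' : s * u = u * s := X.huc s (X.hST hsS)
          have hMK : ∀ a ∈ M, a ∈ pairStab u s huu := by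
            have hwK : w ∈ pairStab u s huu := ⟨hTu w (X.hST hwS), Or.inr (hwsu.trans hsu')⟩
            have huK : u ∈ pairStab u s huu :=
              ⟨hTu u (X.hST huS), Or.inl (by rw [← hsu', mul_inv_cancel_right])⟩
            intro a ha
            rcases hMsmall a ha with rfl | rfl | rfl | rfl
            exacts [one_mem _, huK, hwK, mul_mem hwK huK]
          have hsK : s ∈ pairStab u s huu := ⟨hTu s (X.hST hsS), Or.inl (by group)⟩
          have hSK : ∀ a ∈ X.S, a ∈ pairStab u s huu := by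
            intro a ha
            by_cases haM : a ∈ M
            · exact hMK a haM
            · have h1 := mul_mem (hMK _ (hMidx a ha s hsS haM hsM)) (inv_mem hsK)
              rwa [mul_inv_cancel_right] at h1
          refine X.no_four hsS hs2 hs1 hsu fun τ hτ => ?_
          have htK : X.t ∈ pairStab u s huu := ⟨hTu _ X.htT, Or.inr (hgs.trans hsu')⟩
          rcases X.decomp hτ with h1 | h1
          · exact (hSK τ h1).2
          · have := mul_mem (hSK _ h1) (inv_mem htK)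
            rw [mul_inv_cancel_right] at this
            exact this.2
        · push Not at hall
          obtain ⟨a, ha, hane⟩ := hall
          have hau := (hmv a ha).resolve_left hane
          refine hsM ?_
          have hsa : X.t * (s * a) * X.t⁻¹ = s * a := by
            calc X.t * (s * a) * X.t⁻¹ = (X.t * s * X.t⁻¹) * (X.t * a * X.t⁻¹) := by group
              _ = s * u * (a * u) := by rw [hgs, hau]
              _ = s * a := by rw [mul_assoc s u, ← mul_assoc u a u, ← hcm a ha u huM, mul_assoc a u u, huu, mul_one]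
          have hmem : s * a ∈ M := by
            rcases X.hfix _ (mul_mem hsS (hMS ha)) hsa with h1 | h1 | h1 | h1 <;> rw [h1]
            exacts [one_mem M, huM, hcM, mul_mem hcM huM]
          have := mul_mem hmem (inv_mem ha)
          rwa [mul_inv_cancel_right] at this
    · rw [h, ← mul_assoc] at h3
      have hgg : g * g = u := by rw [mul_eq_one_iff_eq_inv.1 h3, hui]
      have hgfix : X.t * g * X.t⁻¹ = g := by
        rcases hroot g hgM hgg with h' | h' <;> rw [h']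
        · exact htw
        · calc X.t * (w * u) * X.t⁻¹ = (X.t * w * X.t⁻¹) * (X.t * u * X.t⁻¹) := by group
            _ = w * u := by rw [htw, hTu _ X.htT]
      rw [hgfix] at h
      exact X.hu1 (mul_eq_left.1 h.symm)
  -- `c` is outside `M`
  have htcc : X.t * X.c * X.t⁻¹ = X.c := by rw [X.htc, mul_inv_cancel_right]
  have hfixM : ∀ a ∈ M, X.t * a * X.t⁻¹ = a → a = 1 ∨ a = u := by
    intro a ha hf
    rcases X.hfix a (hMS ha) hf with h | h | h | h
    · exact Or.inl h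
    · exact Or.inr h
    · exact absurd (h ▸ ha) hcM
    · refine absurd ?_ hcM
      have := mul_mem (h ▸ ha) huM
      rwa [mul_assoc, huu, mul_one] at this
  have hw1 : w ≠ 1 ∧ w ≠ u := by
    constructor <;> intro h <;> rw [h] at hww
    · exact X.hu1 (hww.symm.trans (mul_one 1))
    · rw [huu] at hww; exact X.hu1 hww.symm
  have htw : X.t * w * X.t⁻¹ = w * u :=
    (himg _ X.htT).resolve_left fun h => (hfixM w hwM h).elim hw1.1 hw1.2
  set s₀ := X.t * X.c with hs₀
  have hs₀T : s₀ ∈ X.TT := mul_mem X.htT hcT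
  have hs₀w : s₀ * w * s₀⁻¹ = w := by
    calc s₀ * w * s₀⁻¹ = X.t * (X.c * w * X.c⁻¹) * X.t⁻¹ := by rw [hs₀]; group
      _ = (X.t * w * X.t⁻¹) * (X.t * u * X.t⁻¹) := by rw [hout _ X.hcS hcM]; group
      _ = w := by rw [htw, hTu _ X.htT, mul_assoc, huu, mul_one]
  have hs₀s₀ : s₀ * s₀ = u := by
    calc s₀ * s₀ = X.t * (X.c * X.t) * X.c := by rw [hs₀]; group
      _ = (X.t * X.t) * (X.c * X.c) := by rw [← X.htc]; group
      _ = u := by rw [X.ht2, one_mul]
  have hmv := Perm.FourAct.moves_by_z hM2 hMc X.hu1 huniq hwM hww (hTM s₀ hs₀T) hs₀w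
    (fun g hg => by rw [hs₀s₀]; exact hcm u huM g hg)
  have hcinv : ∀ g ∈ M, X.c * g * X.c⁻¹ = g⁻¹ ∨ X.c * g * X.c⁻¹ = g⁻¹ * u := by
    intro g hg
    have hg' := hTM _ X.htT g hg
    have hfixed : X.t * (g * (X.t * g * X.t⁻¹)) * X.t⁻¹ = g * (X.t * g * X.t⁻¹) := by
      calc X.t * (g * (X.t * g * X.t⁻¹)) * X.t⁻¹
          = (X.t * g * X.t⁻¹) * ((X.t * X.t) * g * (X.t * X.t)⁻¹) := by group
        _ = _ := by rw [X.ht2, one_mul, inv_one, mul_one, hcm _ hg' g hg]
    have ht' : X.t * g * X.t⁻¹ = g⁻¹ ∨ X.t * g * X.t⁻¹ = g⁻¹ * u := by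
      rcases hfixM _ (mul_mem hg hg') hfixed with h | h
      · exact Or.inl (mul_eq_one_iff_inv_eq.1 h).symm
      · exact Or.inr (by rw [← h, inv_mul_cancel_left])
    have e : X.c * g * X.c⁻¹ = X.t * (s₀ * g * s₀⁻¹) * X.t⁻¹ := by
      calc X.c * g * X.c⁻¹ = (X.t * X.t) * (X.c * g * X.c⁻¹) * (X.t * X.t)⁻¹ := by rw [X.ht2]; group
        _ = _ := by rw [hs₀]; group
    rcases hmv g hg with h | h <;> rw [e, h]
    · exact ht'
    · rw [show X.t * (g * u) * X.t⁻¹ = (X.t * g * X.t⁻¹) * (X.t * u * X.t⁻¹) by group, hTu _ X.htT]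
      rcases ht' with h' | h' <;> rw [h']
      · exact Or.inr rfl
      · left; rw [mul_assoc, huu, mul_one]
  set g₀ := s * X.c⁻¹ with hg₀
  have hciM : X.c⁻¹ ∉ M := fun h => hcM (by simpa using inv_mem h)
  have hg₀M : g₀ ∈ M := hMidx s hsS _ (inv_mem X.hcS) hsM hciM
  have hsg₀ : s = g₀ * X.c := by rw [hg₀]; group
  clear_value g₀
  have hcg₀ : X.c * g₀ * X.c⁻¹ = g₀⁻¹ * u := by
    refine (hcinv g₀ hg₀M).resolve_left fun h => X.hu1 ?_
    have h1 : g₀ * (X.c * g₀ * X.c⁻¹) * (X.c * X.c) = 1 := by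
      rw [← hs2, hsg₀]; group
    rwa [h, mul_inv_cancel, one_mul] at h1
  -- the inverted subgroup `K` and the maximal subgroup `K ∪ K s`
  have hinvmul : ∀ a ∈ M, ∀ b ∈ M, X.c * a * X.c⁻¹ = a⁻¹ → X.c * b * X.c⁻¹ = b⁻¹ →
      X.c * (a * b) * X.c⁻¹ = (a * b)⁻¹ := by
    intro a ha b hb ha' hb'
    calc X.c * (a * b) * X.c⁻¹ = (X.c * a * X.c⁻¹) * (X.c * b * X.c⁻¹) := by group
      _ = (a * b)⁻¹ := by rw [ha', hb', mul_inv_rev, hcm _ (inv_mem ha) _ (inv_mem hb)]
  let K : Subgroup G :=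
    { carrier := {g | g ∈ M ∧ X.c * g * X.c⁻¹ = g⁻¹}
      one_mem' := ⟨one_mem M, by group⟩
      mul_mem' := fun ha hb => ⟨mul_mem ha.1 hb.1, hinvmul _ ha.1 _ hb.1 ha.2 hb.2⟩
      inv_mem' := fun {a} ha => ⟨inv_mem ha.1, by
        calc X.c * a⁻¹ * X.c⁻¹ = (X.c * a * X.c⁻¹)⁻¹ := by group
          _ = a⁻¹⁻¹ := by rw [ha.2]⟩ }
  have hsk : ∀ k ∈ K, s * k * s⁻¹ = k⁻¹ := by
    intro k hk
    calc s * k * s⁻¹ = g₀ * (X.c * k * X.c⁻¹) * g₀⁻¹ := by rw [hsg₀]; group
      _ = k⁻¹ := by rw [hk.2, hcm g₀ hg₀M _ (inv_mem hk.1), mul_inv_cancel_right]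
  have hsk' : ∀ k ∈ K, s * k = k⁻¹ * s := fun k hk => mul_inv_eq_iff_eq_mul.1 (hsk k hk)
  let N : Subgroup G :=
    { carrier := {a | a ∈ K ∨ a * s ∈ K}
      one_mem' := Or.inl (one_mem K)
      mul_mem' := fun {a b} ha hb => by
        rcases ha with ha | ha <;> rcases hb with hb | hb
        · exact Or.inl (mul_mem ha hb)
        · exact Or.inr (by rw [mul_assoc]; exact mul_mem ha hb)
        · refine Or.inr ?_
          have e : a * b * s = a * s * (s * b * s) := by
            rw [← mul_assoc, ← mul_assoc, mul_assoc a s s, hs2, mul_one]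
          rw [e, show s * b * s = b⁻¹ by rw [← hsk b hb, hsi]]
          exact mul_mem ha (inv_mem hb)
        · refine Or.inl ?_
          have e : a * b = a * s * (s * (b * s) * s⁻¹) := by
            calc a * b = a * (s * s) * b * (s * s⁻¹) := by rw [hs2, mul_inv_cancel, mul_one, mul_one]
              _ = _ := by group
          rw [e, hsk _ hb]
          exact mul_mem ha (inv_mem hb)
      inv_mem' := fun {a} ha => by
        rcases ha with ha | ha
        · exact Or.inl (inv_mem ha)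
        · refine Or.inr ?_
          have e : a⁻¹ * s = s * (a * s)⁻¹ * s⁻¹ * (s * s) := by group
          rw [e, hsk _ (inv_mem ha), inv_inv, hs2, mul_one]
          exact ha }
  have hsq : ∀ a, a * s ∈ K → a * a = 1 := by
    intro a ha
    have h := hsk _ ha
    have e : s * (a * s) * s⁻¹ = s * a := by group
    rw [e] at h
    calc a * a = a * (s * s) * a := by rw [hs2, mul_one]
      _ = a * s * (s * a) := by group
      _ = 1 := by rw [h, mul_inv_cancel]
  have huK : u ∈ K := ⟨huM, by rw [hTu _ hcT, hui]⟩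
  have hg₀K : g₀ ∉ K := fun h => X.hu1 (mul_eq_left.1 (hcg₀.symm.trans h.2))
  have hK2 : ∀ g ∈ M, g ∈ K ∨ g * g₀⁻¹ ∈ K := by
    intro g hg
    rcases hcinv g hg with h | h
    · exact Or.inl ⟨hg, h⟩
    · refine Or.inr ⟨mul_mem hg (inv_mem hg₀M), ?_⟩
      calc X.c * (g * g₀⁻¹) * X.c⁻¹ = (X.c * g * X.c⁻¹) * (X.c * g₀ * X.c⁻¹)⁻¹ := by group
        _ = g⁻¹ * (u * u⁻¹) * g₀ := by rw [h, hcg₀]; group
        _ = g⁻¹ * g₀ := by group
        _ = (g * g₀⁻¹)⁻¹ := by rw [mul_inv_rev, inv_inv, hcm _ (inv_mem hg) g₀ hg₀M]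
  have hinvN : ∀ a ∈ X.S, a * a = 1 → a ∈ N := by
    intro a ha h2
    by_cases haM : a ∈ M
    · left
      rcases huniq a haM h2 with rfl | rfl
      exacts [one_mem K, huK]
    · have hg : a * X.c⁻¹ ∈ M := hMidx a ha _ (inv_mem X.hcS) haM hciM
      rcases hK2 _ hg with h | h
      · exfalso
        have h1 : (a * X.c⁻¹) * (X.c * (a * X.c⁻¹) * X.c⁻¹) * (X.c * X.c) = 1 := by
          rw [← h2]; group
        rw [h.2, mul_inv_cancel, one_mul] at h1
        exact X.hu1 h1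
      · right
        have e : a * X.c⁻¹ * g₀⁻¹ = a * s := by
          rw [← hsi, hsg₀]; group
        rwa [e] at h
  have hcN : X.c ∉ N := by
    rintro (h | h)
    · exact hcM h.1
    · exact X.hu1 (hsq _ h)
  have hcover : ∀ b ∈ X.S, b ∈ N ∨ b * X.c ∈ N := by
    have hKN : ∀ k, k ∈ K → k ∈ N := fun k hk => Or.inl hk
    intro b hb
    by_cases hbM : b ∈ M
    · rcases hK2 b hbM with h | h
      · exact Or.inl (hKN b h)
      · refine Or.inr (Or.inr ?_)
        -- `b c s = b g₀⁻¹`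
        have e : b * X.c * s = b * g₀⁻¹ := by
          rw [show s = g₀ * X.c from hsg₀]
          calc b * X.c * (g₀ * X.c) = b * ((X.c * g₀ * X.c⁻¹) * (X.c * X.c)) := by group
            _ = b * g₀⁻¹ := by rw [hcg₀, mul_assoc g₀⁻¹ u, X.hu2, mul_one]
        rwa [e]
    · have hbs : b * s ∈ M := hMidx b hb s hsS hbM hsM
      rcases hK2 _ hbs with h | h
      · exact Or.inl (Or.inr h)
      · refine Or.inr (Or.inl ?_)
        have hg2 : g₀ * g₀ * u ∈ K := mul_mem ⟨mul_mem hg₀M hg₀M, by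
          calc X.c * (g₀ * g₀) * X.c⁻¹ = (X.c * g₀ * X.c⁻¹) * (X.c * g₀ * X.c⁻¹) := by group
            _ = g₀⁻¹ * u * (g₀⁻¹ * u) := by rw [hcg₀]
            _ = (g₀ * g₀)⁻¹ := by
              rw [mul_assoc, ← mul_assoc u g₀⁻¹ u, hcm u huM _ (inv_mem hg₀M), mul_assoc g₀⁻¹ u u,
                huu, mul_one, mul_inv_rev]⟩ huK
        have e : b * X.c = b * s * g₀⁻¹ * (g₀ * g₀ * u) := by
          calc b * X.c = b * (s * s) * X.c := by rw [hs2, mul_one]
            _ = b * s * (g₀ * X.c * X.c) := by rw [← hsg₀]; group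
            _ = _ := by rw [hu]; group
        rw [e]
        exact mul_mem h hg2
  -- `c` is fused to `w` or `w⁻¹`
  obtain ⟨P, hP⟩ := X.exists_sylow
  have hmemP : ∀ a : ↥X.A, a ∈ (P : Subgroup X.A) ↔ (a : G) ∈ X.S := fun a => by
    rw [hP, Subgroup.mem_subgroupOf]
  let ι : ↥(P : Subgroup X.A) →* G := X.A.subtype.comp (P : Subgroup X.A).subtype
  have hc4 : X.c ^ 4 = 1 := by rw [show (4 : ℕ) = 2 + 2 from rfl, pow_add, sq]; exact X.hu2
  obtain ⟨ga, n, hn, hgn⟩ := exists_conj_mem_of_sq X.hperf P (N.comap ι)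
    ⟨⟨X.c, X.hSA X.hcS⟩, (hmemP _).2 X.hcS⟩ (Subtype.ext hc4) hcN
    (fun b => hcover _ ((hmemP _).1 b.2)) (fun g h => hinvN _ ((hmemP _).1 h) (by
      show ((g : G) * X.c ^ 2 * (g : G)⁻¹) * ((g : G) * X.c ^ 2 * (g : G)⁻¹) = 1
      calc _ = (g : G) * (X.c ^ 4) * (g : G)⁻¹ := by group
        _ = 1 := by rw [hc4]; group))
  have hgy : (ga : G) * X.c * (ga : G)⁻¹ = ι n := congrArg Subtype.val hgn
  have hy : (ga : G) * X.c * (ga : G)⁻¹ = w ∨ (ga : G) * X.c * (ga : G)⁻¹ = w * u := by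
    rw [hgy]
    have hy2 : ι n * ι n = (ga : G) * u * (ga : G)⁻¹ := by rw [← hgy, hu]; group
    have hy1 : ι n * ι n ≠ 1 := by rw [hy2]; exact fun h => X.hu1 (conj_eq_one_iff.1 h)
    have hy4 : (ι n * ι n) * (ι n * ι n) = 1 := by
      rw [hy2]
      calc (ga : G) * u * (ga : G)⁻¹ * ((ga : G) * u * (ga : G)⁻¹) = (ga : G) * (u * u) * (ga : G)⁻¹ := by group
        _ = 1 := by rw [huu]; group
    rcases (hn : ι n ∈ N) with h | h
    · exact hroot _ h.1 ((huniq _ (mul_mem h.1 h.1) hy4).resolve_left hy1)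
    · exact absurd (hsq _ h) hy1
  set g : G := (ga : G) with hgdef
  have hgA : g ∈ X.A := ga.2
  -- the image of `t` centralises `w`
  set AT := X.A ⊔ zpowers X.t with hAT
  have hgAT : g ∈ AT := Subgroup.mem_sup_left hgA
  have htAT : X.t ∈ AT := Subgroup.mem_sup_right (mem_zpowers _)
  set t₁ := g * X.t * g⁻¹ with ht₁
  have ht₁w : t₁ * w = w * t₁ := by
    have h1 : Commute t₁ (g * X.c * g⁻¹) := by
      show g * X.t * g⁻¹ * (g * X.c * g⁻¹) = g * X.c * g⁻¹ * (g * X.t * g⁻¹)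
      calc g * X.t * g⁻¹ * (g * X.c * g⁻¹) = g * (X.t * X.c) * g⁻¹ := by group
        _ = g * (X.c * X.t) * g⁻¹ := by rw [X.htc]
        _ = _ := by group
    rcases hy with h | h <;> rw [h] at h1
    · exact h1.eq
    · rw [← hwi] at h1
      have := h1.inv_right
      rw [inv_inv] at this
      exact this.eq
  let B : Subgroup G := AT ⊓ centralizer {w}
  have hBmem : ∀ a, a ∈ AT → a * w = w * a → a ∈ B := fun a ha haw =>
    ⟨ha, fun b hb => by rw [Set.mem_singleton_iff] at hb; subst hb; exact haw.symm⟩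
  let C₀ : Subgroup G := X.TT ⊓ centralizer {w}
  have hC₀B : C₀ ≤ B := inf_le_inf_right _ X.hTTle
  obtain ⟨Q, hQ⟩ := ((X.hTT2.to_le inf_le_left : IsPGroup 2 C₀).of_equiv
    (Subgroup.subgroupOfEquivOfLe hC₀B).symm).exists_le_sylow
  set R := (Q : Subgroup B).map B.subtype with hRdef
  have hR2 : IsPGroup 2 R := Q.isPGroup'.map _
  have hRB : R ≤ B := Subgroup.map_subtype_le _
  have hC₀R : C₀ ≤ R := fun a ha => ⟨⟨a, hC₀B ha⟩, hQ (show (⟨a, hC₀B ha⟩ : B) ∈ C₀.subgroupOf B from ha), rfl⟩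
  obtain ⟨a, haA, haT⟩ := X.conjA (hRB.trans inf_le_left) hR2
  have hMC₀ : ∀ b ∈ M, b ∈ C₀ := fun b hb => ⟨X.hST (hMS hb), fun z hz => by
    rw [Set.mem_singleton_iff] at hz; subst hz; exact hcm _ hwM b hb⟩
  have haS : ∀ b ∈ M, a * b * a⁻¹ ∈ X.S := fun b hb => by
    rw [X.hS]
    exact Subgroup.mem_inf.2 ⟨haT b (hC₀R (hMC₀ b hb)),
      mul_mem (mul_mem haA (X.hSA (hMS hb))) (inv_mem haA)⟩
  set y := a * w * a⁻¹ with hydef
  have hyS : y ∈ X.S := haS w hwM
  have hg₀4 : g₀ ≠ 1 ∧ g₀ ≠ u ∧ g₀ ≠ w ∧ g₀ ≠ w * u := by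
    have hwK : w ∈ K := ⟨hwM, by rw [hout _ X.hcS hcM, hwi]⟩
    refine ⟨fun h => hg₀K (h ▸ one_mem K), fun h => hg₀K (h ▸ huK), fun h => hg₀K (h ▸ hwK),
      fun h => hg₀K (h ▸ mul_mem hwK huK)⟩
  have hyw : y = w ∨ y = w * u := by
    have hy4 : (y * y) * (y * y) = 1 := by
      calc (y * y) * (y * y) = a * ((w * w) * (w * w)) * a⁻¹ := by rw [hydef]; group
        _ = 1 := by rw [hww, huu]; group
    have hy1 : y * y ≠ 1 := fun h => X.hu1 (by
      have h' : a * (w * w) * a⁻¹ = 1 := by rw [← h, hydef]; group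
      rw [hww] at h'; exact conj_eq_one_iff.1 h')
    by_cases hyM : y ∈ M
    · exact hroot y hyM ((huniq _ (mul_mem hyM hyM) hy4).resolve_left hy1)
    exfalso
    obtain ⟨g₁, hg₁, hyg⟩ : ∃ g₁ ∈ M, y = g₁ * X.c :=
      ⟨y * X.c⁻¹, hMidx y hyS _ (inv_mem X.hcS) hyM hciM, by group⟩
    have hsmall : ∀ b ∈ M, b * y = y * b → b = 1 ∨ b = u := by
      intro b hb hby
      have h1 : g₁ * (X.c * b * X.c⁻¹) * g₁⁻¹ = b := by
        calc g₁ * (X.c * b * X.c⁻¹) * g₁⁻¹ = y * b * y⁻¹ := by rw [hyg]; group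
          _ = b := by rw [← hby, mul_inv_cancel_right]
      have h2 : X.c * b * X.c⁻¹ = b := by
        rw [hcm g₁ hg₁ _ (hTM _ hcT b hb), mul_inv_cancel_right] at h1
        exact h1
      have hb2 : b * b = 1 ∨ b * b = u := by
        rcases hcinv b hb with h | h <;> rw [h2] at h
        · exact Or.inl (eq_inv_iff_mul_eq_one.1 h)
        · right; nth_rewrite 2 [h]; rw [← mul_assoc, mul_inv_cancel, one_mul]
      rcases hb2 with h | h
      · exact huniq b hb h
      · exfalso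
        have h3 := hout _ X.hcS hcM
        rcases hroot b hb h with h' | h' <;> rw [h'] at h2
        · exact hwu (h3.symm.trans h2)
        · rw [show X.c * (w * u) * X.c⁻¹ = (X.c * w * X.c⁻¹) * (X.c * u * X.c⁻¹) by group, h3,
            hTu _ hcT] at h2
          exact hwu (mul_right_cancel h2)
    have hset : ∀ b ∈ M, a * b * a⁻¹ ∈ ({1, u, y⁻¹, u * y⁻¹} : Set G) := by
      intro b hb
      have hcy : (a * b * a⁻¹) * y = y * (a * b * a⁻¹) := by
        rw [hydef]
        calc a * b * a⁻¹ * (a * w * a⁻¹) = a * (b * w) * a⁻¹ := by group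
          _ = a * (w * b) * a⁻¹ := by rw [hcm b hb w hwM]
          _ = _ := by group
      by_cases hM' : a * b * a⁻¹ ∈ M
      · rcases hsmall _ hM' hcy with h | h <;> simp [h]
      · have h' : a * b * a⁻¹ * y ∈ M := hMidx _ (haS b hb) y hyS hM' hyM
        rcases hsmall _ h' (by rw [hcy, mul_assoc, hcy]) with h | h
        · right; right; left; exact mul_eq_one_iff_eq_inv.1 h
        · right; right; right; exact eq_mul_inv_iff_mul_eq.2 h
    have hinj : Set.InjOn (fun b => a * b * a⁻¹) ({1, u, w, w * u, g₀} : Set G) :=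
      fun p _ q _ h => by simpa using h
    have hsub : (fun b => a * b * a⁻¹) '' ({1, u, w, w * u, g₀} : Set G) ⊆ {1, u, y⁻¹, u * y⁻¹} := by
      rintro _ ⟨b, hb, rfl⟩
      refine hset b ?_
      simp only [Set.mem_insert_iff, Set.mem_singleton_iff] at hb
      rcases hb with rfl | rfl | rfl | rfl | rfl
      exacts [one_mem M, huM, hwM, mul_mem hwM huM, hg₀M]
    have hwu1 : w * u ≠ 1 := fun h => hw1.2 (by rw [mul_eq_one_iff_eq_inv, hui] at h; exact h)
    have hwuu : w * u ≠ u := fun h => hw1.1 (mul_eq_right.1 h)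
    have h5 : ({1, u, w, w * u, g₀} : Set G).ncard = 5 := by
      rw [Set.ncard_insert_of_notMem (by
            simp [Ne.symm (show u ≠ 1 from X.hu1), Ne.symm hw1.1, Ne.symm hwu1, Ne.symm hg₀4.1]),
        Set.ncard_insert_of_notMem (by simp [Ne.symm hw1.2, Ne.symm hwuu, Ne.symm hg₀4.2.1]),
        Set.ncard_insert_of_notMem (by simp [Ne.symm hwu, Ne.symm hg₀4.2.2.1]),
        Set.ncard_insert_of_notMem (by simp [Ne.symm hg₀4.2.2.2]), Set.ncard_singleton]
    have hle := Set.ncard_le_ncard hsub (Set.toFinite _)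
    rw [hinj.ncard_image, h5] at hle
    have h4 : ({1, u, y⁻¹, u * y⁻¹} : Set G).ncard ≤ 4 := by
      refine (Set.ncard_insert_le _ _).trans (Nat.succ_le_succ ?_)
      refine (Set.ncard_insert_le _ _).trans (Nat.succ_le_succ ?_)
      refine (Set.ncard_insert_le _ _).trans (Nat.succ_le_succ ?_)
      rw [Set.ncard_singleton]
    omega
  -- move the image of `t` into `TT`
  have htw' : ∀ z, z = w ∨ z = w * u → ∀ τ, τ * z = z * τ → τ * w = w * τ := by
    rintro z (rfl | rfl) τ h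
    · exact h
    · rw [← hwi] at h
      have := (show Commute τ w⁻¹ from h).inv_right
      rw [inv_inv] at this
      exact this.eq
  have ht₁2 : IsPGroup 2 (zpowers t₁) := by
    have h2 : t₁ ^ 2 = 1 := by rw [ht₁, conj_pow, sq, X.ht2]; group
    obtain ⟨j, -, hj⟩ := (Nat.dvd_prime_pow Nat.prime_two).1
      (orderOf_dvd_of_pow_eq_one h2 : orderOf t₁ ∣ 2 ^ 1)
    exact IsPGroup.of_card (n := j) (by rw [Nat.card_zpowers, hj])
  have ht₁B : t₁ ∈ B := hBmem _ (mul_mem (mul_mem hgAT htAT) (inv_mem hgAT)) ht₁w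
  have hRmax : ∀ R' : Subgroup G, R' ≤ B → IsPGroup 2 R' → Nat.card R' ≤ Nat.card R := by
    intro R' hR' h2'
    obtain ⟨Q', hQ'⟩ := (h2'.of_equiv (Subgroup.subgroupOfEquivOfLe hR').symm).exists_le_sylow
    rw [hRdef, Subgroup.card_map_of_injective B.subtype_injective, Q.card_eq_multiplicity,
      ← Q'.card_eq_multiplicity, ← Nat.card_congr (Subgroup.subgroupOfEquivOfLe hR').toEquiv]
    exact Subgroup.card_le_of_le hQ'
  obtain ⟨k, hk, hkR⟩ := Perm.FourAct.conj_into hRB hR2 hRmax (zpowers_le.2 ht₁B) ht₁2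
  set q := a * k * g with hq
  have hqAT : q ∈ AT := mul_mem (mul_mem (Subgroup.mem_sup_left haA) hk.1) hgAT
  set t₂ := q * X.t * q⁻¹ with ht₂
  have ht₂T : t₂ ∈ X.TT := by
    have := haT _ (hkR t₁ (mem_zpowers t₁))
    have e : a * (k * t₁ * k⁻¹) * a⁻¹ = t₂ := by rw [ht₂, hq, ht₁]; group
    rwa [e] at this
  have ht₂w : t₂ * w = w * t₂ := by
    refine htw' y hyw t₂ ?_
    have hkw : k * w * k⁻¹ = w := by rw [← hk.2 w rfl, mul_inv_cancel_right]
    have e1 : t₂ = a * (k * t₁ * k⁻¹) * a⁻¹ := by rw [ht₂, hq, ht₁]; group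
    have e2 : y = a * (k * w * k⁻¹) * a⁻¹ := by rw [hkw]
    rw [e1, e2]
    calc a * (k * t₁ * k⁻¹) * a⁻¹ * (a * (k * w * k⁻¹) * a⁻¹) = a * k * (t₁ * w) * k⁻¹ * a⁻¹ := by group
      _ = a * k * (w * t₁) * k⁻¹ * a⁻¹ := by rw [ht₁w]
      _ = _ := by group
  have ht₂2 : t₂ * t₂ = 1 := by
    calc t₂ * t₂ = q * (X.t * X.t) * q⁻¹ := by rw [ht₂]; group
      _ = 1 := by rw [X.ht2]; group
  have htnA : X.t ∉ X.A := fun h => by
    have htS : X.t ∈ X.S := X.hS ▸ Subgroup.mem_inf.2 ⟨X.htT, h⟩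
    have hcomm : X.t * s * X.t⁻¹ = s := by
      rcases X.hfix _ htS (by group) with h1 | h1 | h1 | h1
      · rw [h1]; group
      · rw [h1, ← hu, ← X.huc s (X.hST hsS), mul_inv_cancel_right]
      · exact absurd X.ht2 (by rw [h1]; exact X.hu1)
      · refine absurd X.ht2 ?_
        rw [h1]
        intro h2
        apply X.hu1
        calc X.c * X.c = (X.c * X.c) * ((X.c * X.c) * (X.c * X.c)) := by rw [X.hu2, mul_one]
          _ = X.c * (X.c * X.c) * (X.c * (X.c * X.c)) := by group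
          _ = 1 := h2
    exact (hfixu s hsS hcomm hs2).elim hs1 hsu
  have hATn : AT ≤ normalizer (X.A : Set G) := sup_le Subgroup.le_normalizer X.hUA
  have hσ : t₂ * X.t ∈ X.S := by
    refine (X.decomp ht₂T).resolve_left fun h => htnA ?_
    have := (mem_normalizer_iff.1 (hATn (inv_mem hqAT)) t₂).1 (X.hSA h)
    have e : q⁻¹ * t₂ * q⁻¹⁻¹ = X.t := by rw [ht₂]; group
    rwa [e] at this
  have hσM : t₂ * X.t ∉ M := fun h => by
    have h1 : t₂ * X.t * w * (t₂ * X.t)⁻¹ = w * u := by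
      calc t₂ * X.t * w * (t₂ * X.t)⁻¹ = t₂ * (X.t * w * X.t⁻¹) * t₂⁻¹ := by group
        _ = (t₂ * w * t₂⁻¹) * (t₂ * u * t₂⁻¹) := by rw [htw]; group
        _ = w * u := by rw [ht₂w, mul_inv_cancel_right, hTu t₂ ht₂T]
    rw [hcm _ h w hwM, mul_inv_cancel_right] at h1
    exact hwu h1.symm
  obtain ⟨g₂, hg₂, ht₂g⟩ : ∃ g₂ ∈ M, t₂ = g₂ * s₀ := by
    refine ⟨t₂ * X.t * X.c⁻¹, hMidx _ hσ _ (inv_mem X.hcS) hσM hciM, ?_⟩
    rw [hs₀, X.htc]
    calc t₂ = t₂ * (X.t * X.t) := by rw [X.ht2, mul_one]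
      _ = _ := by group
  have hg₂w : g₂ = w ∨ g₂ = w * u := by
    have h1 : g₂ * (s₀ * g₂ * s₀⁻¹) * u = 1 := by
      rw [← hs₀s₀, ← ht₂2, ht₂g]; group
    rcases hmv g₂ hg₂ with h | h <;> rw [h] at h1
    · exact hroot g₂ hg₂ (by rw [mul_eq_one_iff_eq_inv.1 h1, hui])
    · exfalso
      rw [← mul_assoc g₂ g₂ u, mul_assoc (g₂ * g₂), huu, mul_one] at h1
      rcases huniq g₂ hg₂ h1 with h' | h' <;> rw [h'] at h
      · rw [mul_one, mul_inv_cancel, one_mul] at h; exact X.hu1 h.symm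
      · rw [hTu s₀ hs₀T, huu] at h; exact X.hu1 h
  -- too many elements of `C_A(t₂)`
  have hs₀u : s₀ * u * s₀⁻¹ = u := hTu s₀ hs₀T
  have ht₂conj : ∀ b, b ∈ M → s₀ * b * s₀⁻¹ = b → t₂ * b = b * t₂ := by
    intro b hb h
    rw [ht₂g, mul_assoc, mul_inv_eq_iff_eq_mul.1 h, ← mul_assoc, hcm g₂ hg₂ b hb, mul_assoc]
  obtain ⟨e, heS, het, he4, hew⟩ : ∃ e ∈ X.S, t₂ * e = e * t₂ ∧
      (e ≠ 1 ∧ e ≠ u ∧ e ≠ w ∧ e ≠ w * u) ∧ (e * w * e⁻¹ = w ∨ e * w * e⁻¹ = w * u) := by
    rcases hmv g₀ hg₀M with h | h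
    · exact ⟨g₀, hMS hg₀M, ht₂conj g₀ hg₀M h, hg₀4, himg _ (X.hST (hMS hg₀M))⟩
    · refine ⟨s, hsS, mul_inv_eq_iff_eq_mul.1 ?_, ⟨hs1, hsu, fun h => hsM (h ▸ hwM),
        fun h => hsM (h ▸ mul_mem hwM huM)⟩, himg _ (X.hST hsS)⟩
      have hs₀c : s₀ * X.c * s₀⁻¹ = X.c := by
        calc s₀ * X.c * s₀⁻¹ = X.t * X.c * X.t⁻¹ := by rw [hs₀]; group
          _ = X.c := htcc
      have hs₀s : s₀ * s * s₀⁻¹ = s * u := by
        calc s₀ * s * s₀⁻¹ = (s₀ * g₀ * s₀⁻¹) * (s₀ * X.c * s₀⁻¹) := by rw [hsg₀]; group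
          _ = g₀ * u * X.c := by rw [h, hs₀c]
          _ = s * u := by rw [hsg₀, mul_assoc g₀ u, ← X.huc X.c hcT, ← mul_assoc]
      have hg₂s : g₂ * s * g₂⁻¹ = s * u := by
        rcases hg₂w with h' | h' <;> rw [h']
        · exact hwsu
        · calc w * u * s * (w * u)⁻¹ = w * (u * s * u⁻¹) * w⁻¹ := by group
            _ = s * u := by rw [← X.huc s (X.hST hsS), mul_inv_cancel_right, hwsu]
      calc t₂ * s * t₂⁻¹ = g₂ * (s₀ * s * s₀⁻¹) * g₂⁻¹ := by rw [ht₂g]; group
        _ = (g₂ * s * g₂⁻¹) * (g₂ * u * g₂⁻¹) := by rw [hs₀s]; group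
        _ = s := by rw [hg₂s, hTu g₂ (X.hST (hMS hg₂)), mul_assoc, huu, mul_one]
  let D : Subgroup G := zpowers w ⊔ zpowers e
  have hD2 : IsPGroup 2 D := X.hS2.to_le (sup_le (zpowers_le.2 hwS) (zpowers_le.2 heS))
  have hDt : ∀ d ∈ D, d * t₂ = t₂ * d := by
    have hle : D ≤ centralizer {t₂} := sup_le
      (zpowers_le.2 fun b hb => by rw [Set.mem_singleton_iff] at hb; subst hb; exact ht₂w)
      (zpowers_le.2 fun b hb => by rw [Set.mem_singleton_iff] at hb; subst hb; exact het)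
    exact fun d hd => (hle hd t₂ rfl).symm
  let f : ↥D → G := fun d => q⁻¹ * (d : G) * q
  let D' : Subgroup G := D.map (MulAut.conj q⁻¹).toMonoidHom
  have hD'A : D' ≤ X.A := by
    rintro _ ⟨d, hd, rfl⟩
    have hdA : d ∈ X.A := (sup_le (zpowers_le.2 (X.hSA hwS)) (zpowers_le.2 (X.hSA heS)) : D ≤ X.A) hd
    exact (mem_normalizer_iff.1 (hATn (inv_mem hqAT)) d).1 hdA
  have hD't : ∀ r ∈ D', r * X.t = X.t * r := by
    rintro _ ⟨d, hd, rfl⟩
    show q⁻¹ * d * q⁻¹⁻¹ * X.t = X.t * (q⁻¹ * d * q⁻¹⁻¹)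
    have h := hDt d hd
    rw [ht₂] at h
    calc q⁻¹ * d * q⁻¹⁻¹ * X.t = q⁻¹ * (d * (q * X.t * q⁻¹)) * q := by group
      _ = q⁻¹ * ((q * X.t * q⁻¹) * d) * q := by rw [h]
      _ = _ := by group
  have hcard := X.hC4 D' hD'A hD't (hD2.map _)
  have hinjq : Function.Injective (MulAut.conj q⁻¹).toMonoidHom := (MulAut.conj q⁻¹).injective
  rw [Subgroup.card_map_of_injective hinjq, ← SetLike.coe_sort_coe, Nat.card_coe_set_eq] at hcard
  have hwD : w ∈ D := Subgroup.mem_sup_left (mem_zpowers w)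
  have huD : u ∈ D := hww ▸ mul_mem hwD hwD
  have hwu1 : w * u ≠ 1 := fun h => hw1.2 (by rw [mul_eq_one_iff_eq_inv, hui] at h; exact h)
  have hwuu : w * u ≠ u := fun h => hw1.1 (mul_eq_right.1 h)
  have h5 : ({1, u, w, w * u, e} : Set G).ncard = 5 := by
    rw [Set.ncard_insert_of_notMem (by
          simp [Ne.symm (show u ≠ 1 from X.hu1), Ne.symm hw1.1, Ne.symm hwu1, Ne.symm he4.1]),
      Set.ncard_insert_of_notMem (by simp [Ne.symm hw1.2, Ne.symm hwuu, Ne.symm he4.2.1]),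
      Set.ncard_insert_of_notMem (by simp [Ne.symm hwu, Ne.symm he4.2.2.1]),
      Set.ncard_insert_of_notMem (by simp [Ne.symm he4.2.2.2]), Set.ncard_singleton]
  have hle := Set.ncard_le_ncard (show ({1, u, w, w * u, e} : Set G) ⊆ (D : Set G) from by
    intro b hb
    simp only [Set.mem_insert_iff, Set.mem_singleton_iff] at hb
    rcases hb with rfl | rfl | rfl | rfl | rfl
    exacts [one_mem D, huD, hwD, mul_mem hwD huD, Subgroup.mem_sup_right (mem_zpowers _)])
    (Set.toFinite _)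
  omega

end Cfsg.Agent.InvFour5.Setting
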