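import Cfsg.Agent.Lib.Involution.IndexTwo
import Cfsg.Agent.Lib.Perm.FourActRankOne

/-!
Auxiliary facts on 2-groups with an involutory automorphism fixing at most two points, and on
transfer in perfect groups.
-/

set_option autoImplicit false

namespace Cfsg.Agent.InvFour5

open Subgroup

section Dih

variable {B : Type*} [Group B]

theorem swap_zpow {r z : B} (hzr : z * r * z⁻¹ = r⁻¹) (j : ℤ) : z * r ^ j = r ^ (-j) * z := by
  have h : z * r ^ j * z⁻¹ = r ^ (-j) := by rw [← conj_zpow, hzr, inv_zpow, zpow_neg]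
  exact mul_inv_eq_iff_eq_mul.1 h

/-- The subgroup of the elements `r ^ i` and `r ^ i * z`, when `z` inverts `r` and squares into
`zpowers r`. -/
def dih (r z : B) (hzr : z * r * z⁻¹ = r⁻¹) (hzz : z * z ∈ zpowers r) : Subgroup B where
  carrier := {s | ∃ i : ℤ, s = r ^ i ∨ s = r ^ i * z}
  one_mem' := ⟨0, Or.inl (by simp)⟩
  mul_mem' := by
    rintro a b ⟨i, hi⟩ ⟨j, hj⟩
    obtain ⟨k, hk⟩ := hzz
    have hk' : r ^ k = z * z := hk
    rcases hi with rfl | rfl <;> rcases hj with rfl | rfl
    · exact ⟨i + j, Or.inl (zpow_add r i j).symm⟩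
    · exact ⟨i + j, Or.inr (by rw [zpow_add]; group)⟩
    · exact ⟨i - j, Or.inr (by rw [mul_assoc, swap_zpow hzr, ← mul_assoc, ← zpow_add, sub_eq_add_neg])⟩
    · refine ⟨i - j + k, Or.inl ?_⟩
      calc r ^ i * z * (r ^ j * z) = r ^ i * (z * r ^ j) * z := by group
        _ = r ^ (i - j) * (z * z) := by rw [swap_zpow hzr]; group
        _ = r ^ (i - j + k) := by rw [← hk', ← zpow_add]
  inv_mem' := by
    obtain ⟨k, hk⟩ := hzz
    have hk' : r ^ k = z * z := hk
    rintro a ⟨i, rfl | rfl⟩
    · exact ⟨-i, Or.inl (zpow_neg r i).symm⟩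
    · refine ⟨i + k, Or.inr (inv_eq_of_mul_eq_one_right ?_)⟩
      calc r ^ i * z * (r ^ (i + k) * z) = r ^ i * (z * r ^ (i + k)) * z := by group
        _ = r ^ (-k) * (z * z) := by rw [swap_zpow hzr]; group
        _ = 1 := by rw [← hk', ← zpow_add]; simp

theorem mem_dih {r z : B} {hzr : z * r * z⁻¹ = r⁻¹} {hzz : z * z ∈ zpowers r} {s : B} :
    s ∈ dih r z hzr hzz ↔ ∃ i : ℤ, s = r ^ i ∨ s = r ^ i * z := Iff.rfl

theorem mul_inverts {x y : B} (hx : x * x = 1) (hy : y * y = 1) :
    x * (x * y) * x⁻¹ = (x * y)⁻¹ := by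
  rw [inv_eq_of_mul_eq_one_right hx, mul_inv_rev, inv_eq_of_mul_eq_one_right hx,
    inv_eq_of_mul_eq_one_right hy, ← mul_assoc, hx, one_mul]

/-- In a 2-group with an automorphism `φ` of order 2 fixing only `1, z`, an involution `x` and its
image generate: every element is `r ^ i` or `r ^ i * x` with `r = x * φ x`. -/
theorem gen_pair [Finite B] (hB : IsPGroup 2 B) (φ : B ≃* B) (hφ : ∀ b, φ (φ b) = b) (z : B)
    (hfix : ∀ b, φ b = b → b = 1 ∨ b = z) (x : B) (hx : x * x = 1) (hφx : φ x ≠ x) (b : B) :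
    ∃ i : ℤ, b = (x * φ x) ^ i ∨ b = (x * φ x) ^ i * x := by
  classical
  haveI : Fact (Nat.Prime 2) := ⟨Nat.prime_two⟩
  set y := φ x with hy
  set r := x * y with hr
  have hy2 : y * y = 1 := by rw [hy, ← map_mul, hx, map_one]
  have hxr : x * r * x⁻¹ = r⁻¹ := mul_inverts hx hy2
  have hφr : φ r = r⁻¹ := by
    rw [hr, map_mul, ← hy, hy, hφ, mul_inv_rev, inv_eq_of_mul_eq_one_right hx,
      inv_eq_of_mul_eq_one_right hy2]
  let D := dih r x hxr (hx ▸ one_mem _)
  have hφD : ∀ d ∈ D, φ d ∈ D := by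
    rintro d ⟨i, rfl | rfl⟩
    · exact ⟨-i, Or.inl (by rw [map_zpow, hφr, inv_zpow, zpow_neg])⟩
    · refine ⟨-i - 1, Or.inr ?_⟩
      rw [map_mul, map_zpow, hφr, ← hy, inv_zpow, ← zpow_neg, sub_eq_add_neg, zpow_add, mul_assoc]
      congr 1
      rw [zpow_neg_one, hr, mul_inv_rev, inv_eq_of_mul_eq_one_right hx,
        inv_eq_of_mul_eq_one_right hy2, mul_assoc, hx, mul_one]
  suffices hD : D = ⊤ by exact (hD ▸ mem_top b : b ∈ D)
  by_contra hne
  haveI : Group.IsNilpotent B := hB.isNilpotent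
  have hlt := Group.normalizerCondition_of_isNilpotent D (lt_top_iff_ne_top.2 hne)
  set N := normalizer (D : Set B) with hN
  have hφN : ∀ n ∈ N, φ n ∈ N := by
    intro n hn
    rw [hN, mem_normalizer_iff] at hn ⊢
    intro h
    constructor
    · intro hh
      have := hφD _ ((hn (φ h)).1 (hφD h hh))
      rwa [map_mul, map_mul, map_inv, hφ] at this
    · intro hh
      have h1 := hφD _ hh
      rw [map_mul, map_mul, map_inv, hφ] at h1
      have := hφD _ ((hn (φ h)).2 h1)
      rwa [hφ] at this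
  -- a fixed coset
  let D' := D.subgroupOf N
  let f : ↥N ⧸ D' → ↥N ⧸ D' := Quotient.map' (fun n => ⟨φ n, hφN n n.2⟩) fun a b hab => by
    rw [QuotientGroup.leftRel_apply] at hab ⊢
    have := hφD _ (show (a : B)⁻¹ * b ∈ D from hab)
    rw [map_mul, map_inv] at this
    exact this
  have hf : Function.Involutive f := fun q => by
    induction q using Quotient.inductionOn' with
    | h n => exact congrArg Quotient.mk'' (Subtype.ext (hφ n))
  have hp2 : 2 ∣ Nat.card (↥N ⧸ D') := by
    obtain ⟨k, hk⟩ := (hB.to_subgroup N).index D'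
    rw [← Subgroup.index_eq_card, hk]
    have hk0 : k ≠ 0 := by
      rintro rfl
      rw [pow_zero, Subgroup.index_eq_one] at hk
      exact (lt_iff_le_and_ne.1 hlt).2 (le_antisymm hlt.le fun n hn =>
        (hk ▸ mem_top (⟨n, hn⟩ : ↥N) : (⟨n, hn⟩ : ↥N) ∈ D'))
    exact dvd_pow_self 2 hk0
  haveI := Fintype.ofFinite (↥N ⧸ D')
  have hσ : (hf.toPerm f) ^ 2 ^ 1 = 1 := Equiv.ext fun q => by simp [sq, hf q]
  obtain ⟨q, hq, hq1⟩ := Equiv.Perm.exists_fixed_point_of_prime'
    (σ := hf.toPerm f) (a := ((1 : ↥N) : ↥N ⧸ D')) (by rwa [← Nat.card_eq_fintype_card]) hσ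
    (congrArg Quotient.mk'' (Subtype.ext (map_one φ)))
  obtain ⟨⟨n, hn⟩, rfl⟩ := QuotientGroup.mk_surjective q
  have hnD : n ∉ D := fun h => hq1 (QuotientGroup.eq.2 (show (⟨n, hn⟩ : ↥N)⁻¹ * 1 ∈ D' by
    rw [mem_subgroupOf]; simpa using h))
  have heD : n⁻¹ * φ n ∈ D := by
    have h := QuotientGroup.eq.1 (show ((⟨φ n, hφN n hn⟩ : ↥N) : ↥N ⧸ D') = ((⟨n, hn⟩ : ↥N) : ↥N ⧸ D')
      from hq)
    have h' : (φ n)⁻¹ * n ∈ D := h
    simpa using inv_mem h'
  set e := n⁻¹ * φ n with he
  have hee : e * φ e = 1 := by rw [he, map_mul, map_inv, hφ]; group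
  have hr2 := IsPGroup.iff_orderOf.1 hB r
  have hxy : r ≠ 1 := fun h => hφx (by
    have := mul_eq_one_iff_inv_eq.1 h
    rw [inv_eq_of_mul_eq_one_right hx] at this
    exact this.symm)
  -- a fixed element in the coset
  obtain ⟨f', hf'D, hf'⟩ : ∃ f' ∈ D, e * φ f' = f' := by
    obtain ⟨i, hi | hi⟩ := heD
    · rcases Int.even_or_odd' i with ⟨j, rfl | rfl⟩
      · refine ⟨r ^ j, ⟨j, Or.inl rfl⟩, ?_⟩
        rw [hi, map_zpow, hφr, inv_zpow, ← zpow_neg, ← zpow_add]
        congr 1; ring
      · refine ⟨r ^ j * x, ⟨j, Or.inr rfl⟩, ?_⟩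
        rw [hi, map_mul, map_zpow, hφr, ← hy, show y = r⁻¹ * x by
          rw [hr, mul_inv_rev, inv_eq_of_mul_eq_one_right hx,
            inv_eq_of_mul_eq_one_right hy2, mul_assoc, hx, mul_one]]
        rw [inv_zpow, ← zpow_neg, ← mul_assoc, ← mul_assoc, ← zpow_add, ← zpow_neg_one r, ← zpow_add]
        congr 2; ring
    · exfalso
      have hye : y = r⁻¹ * x := by
        rw [hr, mul_inv_rev, inv_eq_of_mul_eq_one_right hx,
          inv_eq_of_mul_eq_one_right hy2, mul_assoc, hx, mul_one]
      have h1 : r ^ (2 * i + 1) = 1 := by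
        rw [hi, map_mul, map_zpow, hφr, ← hy, hye] at hee
        calc r ^ (2 * i + 1) = r ^ i * (r ^ (i + 1) * (x * x)) := by rw [hx]; group
          _ = r ^ i * ((r ^ (i + 1) * x) * x) := by group
          _ = r ^ i * ((x * r ^ (-(i + 1))) * x) := by rw [swap_zpow hxr, neg_neg]
          _ = r ^ i * x * (r⁻¹ ^ i * (r⁻¹ * x)) := by group
          _ = 1 := hee
      obtain ⟨k, hk⟩ := hr2
      rw [← orderOf_dvd_iff_zpow_eq_one, hk] at h1
      rcases Nat.eq_zero_or_pos k with rfl | hk0
      · exact hxy (orderOf_eq_one_iff.1 (by simpa using hk))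
      · have h2 : (2 : ℤ) ∣ 2 * i + 1 := (dvd_pow_self 2 hk0.ne').trans (by exact_mod_cast h1)
        omega
  have hfixed : φ (n * f') = n * f' := by
    calc φ (n * f') = n * (e * φ f') := by rw [map_mul, he]; group
      _ = n * f' := by rw [hf']
  have hz : n * f' = z := (hfix _ hfixed).resolve_left fun h => hnD (by
    rw [mul_eq_one_iff_eq_inv.1 h]; exact inv_mem hf'D)
  -- but `D` already contains `z`
  obtain ⟨k, hk⟩ := hr2
  obtain ⟨m, rfl⟩ : ∃ m, k = m + 1 := Nat.exists_eq_add_one.2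
    (Nat.pos_of_ne_zero fun h0 => hxy (orderOf_eq_one_iff.1 (by simp [hk, h0])))
  set w := r ^ 2 ^ m with hw
  have hw1 : w ≠ 1 := pow_ne_one_of_lt_orderOf (pow_ne_zero m two_ne_zero)
    (by rw [hk]; exact Nat.pow_lt_pow_right one_lt_two (Nat.lt_succ_self m))
  have hw2 : w * w = 1 := by rw [hw, ← pow_add, ← two_mul, ← pow_succ', ← hk, pow_orderOf_eq_one]
  have hwf : φ w = w := by rw [hw, map_pow, hφr, inv_pow]; exact inv_eq_of_mul_eq_one_right hw2
  have hwz := (hfix w hwf).resolve_left hw1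
  apply hnD
  have : z ∈ D := hwz ▸ pow_mem (⟨1, Or.inl (zpow_one r).symm⟩ : r ∈ D) _
  have h := mul_mem (hz ▸ this : n * f' ∈ D) (inv_mem hf'D)
  simpa using h

end Dih

universe u

/-- A 2-group with an automorphism of order 2 fixing at most two points has a cyclic subgroup of
index at most 2, invariant under the automorphism. -/
theorem exists_cyclic_index_two : ∀ (n : ℕ) (B : Type u) [Group B] [Finite B], Nat.card B ≤ n →
    IsPGroup 2 B → ∀ φ : B ≃* B, (∀ b, φ (φ b) = b) → ∀ z : B, (∀ b, φ b = b → b = 1 ∨ b = z) →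
    ∃ r : B, φ r ∈ zpowers r ∧ (zpowers r).index ≤ 2 := by
  intro n
  induction n with
  | zero => intro B _ _ h; exact absurd h (by have := Nat.card_pos (α := B); omega)
  | succ n ih =>
    intro B _ _ hn hB φ hφ z₀ hfix
    classical
    haveI : Fact (Nat.Prime 2) := ⟨Nat.prime_two⟩
    rcases subsingleton_or_nontrivial B with hs | hnt
    · exact ⟨1, by rw [map_one]; exact one_mem _, by
        rw [Subgroup.index_eq_card]
        exact (Finite.card_le_one_iff_subsingleton.2 inferInstance).trans one_le_two⟩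
    -- a fixed central involution
    haveI := hB.center_nontrivial
    haveI := Fintype.ofFinite ↥(center B)
    let g : ↥(center B) → ↥(center B) := fun c => ⟨φ c, by
      rw [Subgroup.mem_center_iff]
      intro b
      apply φ.symm.injective
      rw [map_mul, map_mul, MulEquiv.symm_apply_apply, (Subgroup.mem_center_iff.1 c.2 _)]⟩
    have hg : Function.Involutive g := fun c => Subtype.ext (hφ c)
    have hp2 : 2 ∣ Fintype.card ↥(center B) := by
      obtain ⟨k, hk⟩ := IsPGroup.iff_card.1 (hB.to_subgroup (center B))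
      rw [← Nat.card_eq_fintype_card, hk]
      refine dvd_pow_self 2 ?_
      rintro rfl
      have := Finite.one_lt_card (α := ↥(center B))
      omega
    have hσ : (hg.toPerm g) ^ 2 ^ 1 = 1 := Equiv.ext fun q => by simp [sq, hg q]
    obtain ⟨⟨z, hzc⟩, hz, hz1⟩ := Equiv.Perm.exists_fixed_point_of_prime'
      (σ := hg.toPerm g) (a := 1) hp2 hσ (Subtype.ext (map_one φ))
    have hφz : φ z = z := congrArg Subtype.val hz
    have hz1' : z ≠ 1 := fun h => hz1 (Subtype.ext h)
    have hfz : ∀ b, φ b = b → b = 1 ∨ b = z := fun b hb => by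
      rcases hfix b hb with h | h
      · exact Or.inl h
      · exact Or.inr (h.trans ((hfix z hφz).resolve_left hz1').symm)
    have hz2 : z * z = 1 := (hfz _ (by rw [map_mul, hφz])).resolve_right fun h => hz1' (mul_eq_left.1 h)
    haveI hN : (zpowers z).Normal := ⟨fun a ha b => by
      rw [Subgroup.mem_center_iff.1 ((zpowers_le.2 hzc) ha) b, mul_inv_cancel_right]; exact ha⟩
    have hmemz : ∀ a ∈ zpowers z, a = 1 ∨ a = z := fun a ha => hfz a (by
      obtain ⟨k, rfl⟩ := ha; rw [map_zpow, hφz])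
    let q := QuotientGroup.mk' (zpowers z)
    have hmap : (zpowers z).map φ.toMonoidHom = zpowers z := by
      rw [MonoidHom.map_zpowers]; exact congrArg _ hφz
    let φ' : B ⧸ zpowers z ≃* B ⧸ zpowers z := QuotientGroup.congr _ _ φ hmap
    have hφ'q : ∀ b, φ' (q b) = q (φ b) := fun b => rfl
    have hφ' : ∀ b, φ' (φ' b) = b := fun b => by
      obtain ⟨b, rfl⟩ := QuotientGroup.mk'_surjective _ b
      rw [hφ'q, hφ'q, hφ]
    have hlt : Nat.card (B ⧸ zpowers z) ≤ n := by
      have h1 := (zpowers z).card_mul_index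
      rw [Subgroup.index_eq_card] at h1
      have h2 : 1 < Nat.card (zpowers z) := by
        rw [Nat.card_zpowers]
        rcases Nat.lt_or_ge 1 (orderOf z) with h | h
        · exact h
        · exact absurd (orderOf_eq_one_iff.1 (le_antisymm h (orderOf_pos z))) hz1'
      have h3 : 0 < Nat.card (B ⧸ zpowers z) := Nat.card_pos
      nlinarith
    obtain ⟨z', hz'⟩ : ∃ z', ∀ b, φ' b = b → b = 1 ∨ b = z' := by
      by_cases h : ∃ b : B, φ b = b * z
      · obtain ⟨b₀, hb₀⟩ := h
        refine ⟨q b₀, fun b hb => ?_⟩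
        obtain ⟨b, rfl⟩ := QuotientGroup.mk'_surjective _ b
        rw [hφ'q] at hb
        rcases hmemz _ (QuotientGroup.eq.1 hb.symm) with h | h
        · left
          refine (QuotientGroup.eq_one_iff b).2 ?_
          rcases hfz b (inv_mul_eq_one.1 h).symm with h' | h' <;> rw [h']
          exacts [one_mem _, mem_zpowers z]
        · right
          have hbz : φ b = b * z := inv_mul_eq_iff_eq_mul.1 h
          have hf : φ (b * b₀⁻¹) = b * b₀⁻¹ := by
            rw [map_mul, map_inv, hbz, hb₀, mul_inv_rev]; group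
          refine QuotientGroup.eq.2 (?_ : b⁻¹ * b₀ ∈ zpowers z)
          rcases hfz _ hf with h' | h'
          · rw [mul_inv_eq_one.1 h', inv_mul_cancel]; exact one_mem _
          · rw [mul_inv_eq_iff_eq_mul.1 h', mul_inv_rev, mul_assoc,
              ← Subgroup.mem_center_iff.1 (inv_mem hzc) b₀, inv_mul_cancel_left]
            exact inv_mem (mem_zpowers z)
      · refine ⟨1, fun b hb => Or.inl ?_⟩
        obtain ⟨b, rfl⟩ := QuotientGroup.mk'_surjective _ b
        rw [hφ'q] at hb
        refine (QuotientGroup.eq_one_iff b).2 ?_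
        rcases hmemz _ (QuotientGroup.eq.1 hb.symm) with h' | h'
        · rcases hfz b (inv_mul_eq_one.1 h').symm with h'' | h'' <;> rw [h'']
          exacts [one_mem _, mem_zpowers z]
        · exact absurd ⟨b, inv_mul_eq_iff_eq_mul.1 h'⟩ h
    obtain ⟨r', hr', hi'⟩ := ih (B ⧸ zpowers z) hlt (hB.to_quotient _) φ' hφ' z' hz'
    obtain ⟨r, rfl⟩ := QuotientGroup.mk'_surjective _ r'
    have hcomm : Commute r z := Subgroup.mem_center_iff.1 hzc r
    set P := (zpowers (q r)).comap q with hP
    have hmemP : ∀ a, a ∈ P ↔ ∃ i : ℤ, a = r ^ i ∨ a = r ^ i * z := by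
      intro a
      constructor
      · rintro ⟨i, hi⟩
        refine ⟨i, ?_⟩
        have h' : q (r ^ i) = q a := by rw [map_zpow]; exact hi
        rcases hmemz _ (QuotientGroup.eq.1 h') with h | h
        · exact Or.inl (inv_mul_eq_one.1 h).symm
        · exact Or.inr (inv_mul_eq_iff_eq_mul.1 h)
      · rintro ⟨i, rfl | rfl⟩
        · exact ⟨i, (map_zpow q r i).symm⟩
        · refine ⟨i, ?_⟩
          show (q r) ^ i = q (r ^ i * z)
          rw [map_mul, show q z = 1 from (QuotientGroup.eq_one_iff z).2 (mem_zpowers z), mul_one, map_zpow]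
    have hPidx : P.index ≤ 2 := by
      rw [hP, Subgroup.index_comap_of_surjective _ (QuotientGroup.mk'_surjective _)]; exact hi'
    have hφr : φ r ∈ P := by
      show q (φ r) ∈ zpowers (q r)
      exact hφ'q r ▸ hr'
    by_cases hzr : z ∈ zpowers r
    · have hPr : P = zpowers r := le_antisymm (fun a ha => by
        rcases (hmemP a).1 ha with ⟨i, rfl | rfl⟩
        exacts [zpow_mem_zpowers r i, mul_mem (zpow_mem_zpowers r i) hzr]) (zpowers_le.2 ((hmemP r).2 ⟨1, Or.inl (zpow_one r).symm⟩))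
      exact ⟨r, hPr ▸ hφr, hPr ▸ hPidx⟩
    obtain ⟨k, hk⟩ := IsPGroup.iff_orderOf.1 hB r
    rcases k with _ | m
    · have hr1 : r = 1 := orderOf_eq_one_iff.1 (by simpa using hk)
      have hPz : P = zpowers z := le_antisymm (fun a ha => by
        rcases (hmemP a).1 ha with ⟨i, rfl | rfl⟩ <;> rw [hr1, one_zpow]
        exacts [one_mem _, by rw [one_mul]; exact mem_zpowers z]) (zpowers_le.2 ((hmemP z).2 ⟨0, Or.inr (by simp)⟩))
      exact ⟨z, hφz.symm ▸ mem_zpowers z, hPz ▸ hPidx⟩
    set e := r ^ 2 ^ m with he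
    have he1 : e ≠ 1 := pow_ne_one_of_lt_orderOf (pow_ne_zero m two_ne_zero)
      (by rw [hk]; exact Nat.pow_lt_pow_right one_lt_two (Nat.lt_succ_self m))
    have hez : e ≠ z := fun h => hzr (h ▸ pow_mem (mem_zpowers r) _)
    have he2 : e * e = 1 := by rw [he, ← pow_add, ← two_mul, ← pow_succ', ← hk, pow_orderOf_eq_one]
    have hef : φ e ≠ e := fun h => (hfz e h).elim he1 hez
    -- so `r` has order 2
    obtain rfl : m = 0 := by
      by_contra hm
      apply hef
      obtain ⟨j, hj⟩ := Nat.exists_eq_add_one.2 (Nat.pos_of_ne_zero hm)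
      have hzp : z ^ 2 ^ m = 1 := by rw [hj, pow_succ', pow_mul, sq, hz2, one_pow]
      obtain ⟨i, hi⟩ : ∃ i : ℤ, φ e = e ^ i := by
        rcases (hmemP _).1 hφr with ⟨i, h | h⟩
        · exact ⟨i, by rw [he, map_pow, h, ← zpow_natCast, ← zpow_mul, mul_comm, zpow_mul, zpow_natCast]⟩
        · refine ⟨i, ?_⟩
          rw [he, map_pow, h, (Commute.zpow_left hcomm i).mul_pow, hzp, mul_one, ← zpow_natCast,
            ← zpow_mul, mul_comm, zpow_mul, zpow_natCast]
      rcases Int.even_or_odd' i with ⟨l, rfl | rfl⟩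
      · rw [zpow_mul, zpow_two, he2, one_zpow] at hi
        exact absurd (φ.map_eq_one_iff.1 hi) he1
      · rwa [zpow_add, zpow_mul, zpow_two, he2, one_zpow, one_mul, zpow_one] at hi
    simp only [pow_zero, pow_one] at he
    rw [he] at he1 hez he2 hef
    clear he e
    have hpow : ∀ i : ℤ, r ^ i = 1 ∨ r ^ i = r := by
      intro i
      rcases Int.even_or_odd' i with ⟨l, rfl | rfl⟩
      · exact Or.inl (by rw [zpow_mul, zpow_two, he2, one_zpow])
      · exact Or.inr (by rw [zpow_add, zpow_mul, zpow_two, he2, one_zpow, one_mul, zpow_one])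
    have hPmem : ∀ a ∈ P, a = 1 ∨ a = r ∨ a = z ∨ a = r * z := by
      intro a ha
      rcases (hmemP a).1 ha with ⟨i, rfl | rfl⟩ <;> rcases hpow i with h | h <;> simp [h]
    have hφr' : φ r = r * z := by
      rcases hPmem _ hφr with h | h | h | h
      · exact absurd (φ.map_eq_one_iff.1 h) he1
      · exact absurd h hef
      · exact absurd (φ.injective (h.trans hφz.symm)) hez
      · exact h
    rcases Nat.lt_or_ge P.index 2 with hlt | hge
    · have hPtop : P = ⊤ := Subgroup.index_eq_one.1 (by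
        have := Subgroup.index_ne_zero_of_finite (H := P); omega)
      refine ⟨z, hφz.symm ▸ mem_zpowers z, ?_⟩
      have h1 := (zpowers z).card_mul_index
      rw [Nat.card_zpowers, orderOf_eq_prime (by rw [sq]; exact hz2) hz1'] at h1
      have hle : Nat.card B ≤ Nat.card (↑({1, r, z, r * z} : Finset B) : Type _) :=
        Nat.card_le_card_of_injective (fun b => ⟨b, by
          simpa [Finset.mem_coe] using hPmem b (hPtop ▸ mem_top b)⟩) fun a b h => congrArg Subtype.val h
      rw [Nat.card_eq_finsetCard] at hle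
      have := hle.trans Finset.card_le_four
      omega
    exfalso
    obtain ⟨b, hb⟩ : ∃ b, b ∉ P := by
      by_contra hh
      push Not at hh
      rw [Subgroup.index_eq_one.2 ((eq_top_iff' P).2 hh)] at hge
      omega
    have hw : b⁻¹ * φ b ∈ P :=
      (Subgroup.mul_mem_iff_of_index_two (le_antisymm hPidx hge)).2 (iff_of_false
        (fun h => hb (by simpa using inv_mem h)) (fun h => hb (by
          have := hP ▸ h
          have h2 : φ' (q b) ∈ zpowers (q r) := hφ'q b ▸ this
          obtain ⟨i, hi⟩ := h2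
          obtain ⟨j, hj⟩ := hr'
          show q b ∈ zpowers (q r)
          have h3 := congrArg φ' hi
          simp only [map_zpow, hφ'] at h3
          rw [← h3, ← show (q r) ^ j = φ' (q r) from hj, ← zpow_mul]
          exact zpow_mem_zpowers _ _)))
    set w := b⁻¹ * φ b with hwdef
    have hww : w * φ w = 1 := by rw [hwdef, map_mul, map_inv, hφ]; group
    have hbw : φ b = b * w := by rw [hwdef]; group
    rcases hPmem w hw with h | h | h | h <;> rw [h] at hww hbw
    · exact hb ((hfz b (by rw [hbw, mul_one])).elim (fun h => h ▸ one_mem P)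
        fun h => h ▸ (hmemP z).2 ⟨0, Or.inr (by simp)⟩)
    · rw [hφr', ← mul_assoc, he2, one_mul] at hww
      exact hz1' hww
    · have hf : φ (b * r) = b * r := by
        rw [map_mul, hbw, hφr', mul_assoc, ← mul_assoc z r z, ← hcomm.eq, mul_assoc r z z, hz2, mul_one]
      apply hb
      have : b * r ∈ P := (hfz _ hf).elim (fun h => h ▸ one_mem P)
        fun h => h ▸ (hmemP z).2 ⟨0, Or.inr (by simp)⟩
      simpa using mul_mem this (inv_mem ((hmemP r).2 ⟨1, Or.inl (zpow_one r).symm⟩))
    · rw [map_mul, hφr', hφz, mul_assoc r z z, hz2, mul_one, mul_assoc, ← hcomm.eq, ← mul_assoc, he2,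
        one_mul] at hww
      exact hz1' hww

section Transfer

variable {G : Type*} [Group G] [Finite G]

theorem not_index_two (hperf : Group.IsPerfect G) (M : Subgroup G) [M.Normal] (h : M.index = 2) :
    False := by
  have hq2 : Nat.card (G ⧸ M) = 2 := by rw [← Subgroup.index_eq_card, h]
  haveI : IsCyclic (G ⧸ M) := isCyclic_of_prime_card hq2
  have hcomm : _root_.commutator G ≤ M := by
    rw [_root_.commutator_def, Subgroup.commutator_le]
    intro a _ b _
    rw [← QuotientGroup.eq_one_iff, commutatorElement_def]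
    show (a : G ⧸ M) * b * (a : G ⧸ M)⁻¹ * (b : G ⧸ M)⁻¹ = 1
    rw [mul_comm' (a : G ⧸ M) b]
    group
  rw [hperf.commutator_eq_top, top_le_iff] at hcomm
  rw [hcomm, Subgroup.index_top] at h
  omega

/-- Thompson transfer in a perfect group, relative to a Sylow subgroup. -/
theorem fuse_into (hperf : Group.IsPerfect G) (P : Sylow 2 G) (M : Subgroup ↥(P : Subgroup G))
    (v : ↥(P : Subgroup G)) (hv : v * v = 1) (hvM : v ∉ M) (hM : ∀ b, b ∈ M ∨ b * v ∈ M) :
    ∃ g : G, ∃ m ∈ M, g * (v : G) * g⁻¹ = (m : G) := by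
  by_contra hh
  push Not at hh
  have hle : M.map (P : Subgroup G).subtype ≤ (P : Subgroup G) := Subgroup.map_subtype_le M
  have hidx : (M.map (P : Subgroup G).subtype).relIndex (P : Subgroup G) = 2 := by
    rw [Subgroup.relIndex, show (M.map (P : Subgroup G).subtype).subgroupOf (P : Subgroup G) = M from
      Subgroup.comap_map_eq_self_of_injective (Subgroup.subtype_injective _) M,
      Subgroup.index_eq_two_iff]
    refine ⟨v, fun b => ?_⟩
    rcases hM b with h | h
    · exact Or.inr ⟨h, fun h' => hvM (by simpa using mul_mem (inv_mem h) h')⟩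
    · exact Or.inl ⟨h, fun h' => hvM (by simpa using mul_mem (inv_mem h') h)⟩
  obtain ⟨N, hN, hN2, -⟩ := Involution.thompson_transfer P (M.map (P : Subgroup G).subtype) hle hidx
    (u := (v : G)) (congrArg Subtype.val hv) (fun g hg => by
      obtain ⟨m, hm, he⟩ := Subgroup.mem_map.1 hg
      exact hh g m hm he.symm)
  haveI := hN
  exact not_index_two hperf N hN2

/-- In a perfect group a central element of a Sylow subgroup lies in its derived subgroup. -/
theorem central_mem_commutator (hperf : Group.IsPerfect G) (P : Sylow 2 G) (v : ↥(P : Subgroup G))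
    (hv : (v : G) ∈ center G) : v ∈ _root_.commutator ↥(P : Subgroup G) := by
  classical
  let φ : ↥(P : Subgroup G) →* Abelianization ↥(P : Subgroup G) := Abelianization.of
  have htriv : MonoidHom.transfer φ (v : G) = 1 := by
    have : _root_.commutator G ≤ (MonoidHom.transfer φ).ker := by
      rw [_root_.commutator_def, Subgroup.commutator_le]
      intro a _ b _
      rw [MonoidHom.mem_ker, map_commutatorElement, commutatorElement_eq_one_iff_mul_comm, mul_comm]
    rw [hperf.commutator_eq_top] at this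
    exact MonoidHom.mem_ker.1 (this (mem_top _))
  rw [MonoidHom.transfer_eq_pow φ _ fun k g₀ hk => by
    rw [(Subgroup.mem_center_iff.1 (pow_mem hv k) g₀⁻¹), mul_assoc, inv_mul_cancel, mul_one]] at htriv
  set n := (P : Subgroup G).index with hn
  have hvn : v ^ n ∈ _root_.commutator ↥(P : Subgroup G) := by
    rw [← Abelianization.ker_of, MonoidHom.mem_ker]
    exact htriv
  haveI : Fact (Nat.Prime 2) := ⟨Nat.prime_two⟩
  obtain ⟨k, hk⟩ := IsPGroup.iff_orderOf.1 P.isPGroup' v
  have hcop : n.Coprime (orderOf v) := by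
    rw [hk]
    exact Nat.Coprime.pow_right _ ((Nat.coprime_comm.1 ((Nat.Prime.coprime_iff_not_dvd Nat.prime_two).2
      P.not_dvd_index)))
  obtain ⟨m, hm⟩ := exists_pow_eq_self_of_coprime hcop
  rw [← hm]
  exact pow_mem hvn m

end Transfer

end Cfsg.Agent.InvFour5
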